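import Groth.Prelude.Def_AlgSp2

/-!
# Points of fppf sheaves: pullbacks, surjectivity, openness of etale charts

Everything here is for arbitrary sheaves in `AlgSp.Sp S` unless stated otherwise.
-/

set_option autoImplicit false

universe u

open CategoryTheory CategoryTheory.Limits AlgebraicGeometry Opposite AlgSp

namespace K609.Points

variable {S : Scheme.{u}}

/-- Sections of a pullback square of sheaves over an object of the site. -/
theorem exists_section_of_isPullback {P Z X Y : Sp S} {fst : P ⟶ Z} {snd : P ⟶ X} {g : Z ⟶ Y} {f : X ⟶ Y}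
    (h : IsPullback fst snd g f) (T : Over S) (z : Z.obj.obj (op T)) (x : X.obj.obj (op T))
    (e : g.hom.app (op T) z = f.hom.app (op T) x) :
    ∃ p : P.obj.obj (op T), fst.hom.app (op T) p = z ∧ snd.hom.app (op T) p = x := by
  have h' : IsPullback (fst.hom.app (op T)) (snd.hom.app (op T)) (g.hom.app (op T)) (f.hom.app (op T)) :=
    h.map (sheafToPresheaf _ _ ⋙ (evaluation _ _).obj (op T))
  obtain ⟨p, hp1, hp2⟩ := Types.exists_of_isPullback h' z x e
  exact ⟨p, hp1, hp2⟩

/-- A section over `T` of a pullback of sheaves is determined by its two projections. -/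
theorem section_ext_of_isPullback {P Z X Y : Sp S} {fst : P ⟶ Z} {snd : P ⟶ X} {g : Z ⟶ Y} {f : X ⟶ Y}
    (h : IsPullback fst snd g f) (T : Over S) (p q : P.obj.obj (op T))
    (h1 : fst.hom.app (op T) p = fst.hom.app (op T) q) (h2 : snd.hom.app (op T) p = snd.hom.app (op T) q) :
    p = q := by
  have h' : IsPullback (fst.hom.app (op T)) (snd.hom.app (op T)) (g.hom.app (op T)) (f.hom.app (op T)) :=
    h.map (sheafToPresheaf _ _ ⋙ (evaluation _ _).obj (op T))
  exact Types.ext_of_isPullback h' h1 h2

/-- For every cartesian square of sheaves the map on points `|Z ×_Y X| → |Z| ×_{|Y|} |X|` is surjective. -/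
theorem exists_of_isPullback {P Z X Y : Sp S} {fst : P ⟶ Z} {snd : P ⟶ X} {g : Z ⟶ Y} {f : X ⟶ Y}
    (h : IsPullback fst snd g f) (z : Points Z) (x : Points X) (e : Points.map g z = Points.map f x) :
    ∃ p : Points P, Points.map fst p = z ∧ Points.map snd p = x := by
  induction z using Points.ind with
  | h z =>
  induction x using Points.ind with
  | h x =>
  rw [Points.map_mk, Points.map_mk, Points.mk_eq_mk_iff] at e
  obtain ⟨Ω, hΩ, w, a, b, hab⟩ := e
  let a' : Over.mk w ⟶ z.pt := a
  let b' : Over.mk w ⟶ x.pt := b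
  have hab' : g.hom.app _ (Z.obj.map a'.op z.val) = f.hom.app _ (X.obj.map b'.op x.val) := by
    rw [NatTrans.naturality_apply, NatTrans.naturality_apply]
    exact hab
  obtain ⟨p, hp1, hp2⟩ := exists_section_of_isPullback h (Over.mk w) _ _ hab'
  refine ⟨Points.mk ⟨Ω, w, p⟩, ?_, ?_⟩
  · refine Points.sound ⟨Ω, hΩ, w, 𝟙 _, a', ?_⟩
    change Z.obj.map (𝟙 _) (fst.hom.app _ p) = Z.obj.map a'.op z.val
    rw [hp1, CategoryTheory.Functor.map_id]
    rfl
  · refine Points.sound ⟨Ω, hΩ, w, 𝟙 _, b', ?_⟩
    change X.obj.map (𝟙 _) (snd.hom.app _ p) = X.obj.map b'.op x.val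
    rw [hp2, CategoryTheory.Functor.map_id]
    rfl

/-- If `|f|` is surjective then so is its base change. -/
theorem surjective_map_of_isPullback {P Z X Y : Sp S} {fst : P ⟶ Z} {snd : P ⟶ X} {g : Z ⟶ Y} {f : X ⟶ Y}
    (h : IsPullback fst snd g f) (hf : Function.Surjective (Points.map f)) :
    Function.Surjective (Points.map fst) := fun z => by
  obtain ⟨x, hx⟩ := hf (Points.map g z)
  obtain ⟨p, hp, -⟩ := exists_of_isPullback h z x hx.symm
  exact ⟨p, hp⟩

/-- `ofScheme T` is injective. -/
theorem ofScheme_injective (T : Over S) : Function.Injective (Points.ofScheme T) :=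
  (Points.schemeEquiv T).injective

theorem ofScheme_surjective (T : Over S) : Function.Surjective (Points.ofScheme T) :=
  (Points.schemeEquiv T).surjective

theorem ofPt_yon_map {T T' : Over S} (φ : T ⟶ T') (t : ↥T.left) :
    Points.ofPt ((yon S).map φ) t = Points.ofScheme T' (φ.left t) := by
  rw [← Points.toScheme_ofPt φ t, Points.ofScheme_toScheme]

/-- The point of `F` defined by `h_T → h_T' → F` and `t ∈ T` is the one defined by the image of `t` in `T'`. -/
theorem ofPt_yon_map_comp {F : Sp S} {T T' : Over S} (φ : T ⟶ T') (g : (yon S).obj T' ⟶ F) (t : ↥T.left) :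
    Points.ofPt ((yon S).map φ ≫ g) t = Points.ofPt g (φ.left t) := by
  rw [← Points.map_ofPt, ofPt_yon_map, ← Points.ofPt_eq_map_ofScheme]

/-- `Points.map (h_φ)` is `φ` through the identifications with the points of the schemes. -/
theorem map_yon_map_ofScheme {T T' : Over S} (φ : T ⟶ T') (t : ↥T.left) :
    Points.map ((yon S).map φ) (Points.ofScheme T t) = Points.ofScheme T' (φ.left t) := by
  rw [← ofPt_yon_map, ← Points.ofPt_eq_map_ofScheme]

theorem surjective_map_yon_map_iff {T T' : Over S} (φ : T ⟶ T') :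
    Function.Surjective (Points.map ((yon S).map φ)) ↔ Function.Surjective φ.left := by
  constructor
  · intro h t'
    obtain ⟨x, hx⟩ := h (Points.ofScheme T' t')
    obtain ⟨t, rfl⟩ := ofScheme_surjective T x
    rw [map_yon_map_ofScheme] at hx
    exact ⟨t, ofScheme_injective _ hx⟩
  · intro h x'
    obtain ⟨t', rfl⟩ := ofScheme_surjective T' x'
    obtain ⟨t, rfl⟩ := h t'
    exact ⟨Points.ofScheme T t, map_yon_map_ofScheme φ t⟩

/-- The map `h_T ⟶ F` given by a section of `F` over `T`. -/
noncomputable def ofSection {F : Sp S} {T : Over S} (x : F.obj.obj (op T)) : (yon S).obj T ⟶ F :=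
  (J S).uliftYonedaEquiv.symm x

theorem ofSection_app {F : Sp S} {T : Over S} (x : F.obj.obj (op T)) (T' : Over S) (φ : T' ⟶ T) :
    (ofSection x).hom.app (op T') ⟨φ⟩ = F.obj.map φ.op x := rfl

theorem ofSection_app_id {F : Sp S} {T : Over S} (x : F.obj.obj (op T)) :
    (ofSection x).hom.app (op T) ⟨𝟙 T⟩ = x := by
  rw [ofSection_app]
  simp

/-- Every point of a sheaf is `ofPt g` for some `g : h_{Spec K} ⟶ F`. -/
theorem mk_eq_ofPt {F : Sp S} (p : FieldPt F) (t : ↥p.pt.left) :
    Points.mk p = Points.ofPt (ofSection p.val) t := by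
  have ht : (𝟙 (Spec (CommRingCat.of p.K)) : Spec (CommRingCat.of p.K) ⟶ p.pt.left)
      (IsLocalRing.closedPoint p.K) = t :=
    Subsingleton.elim (α := PrimeSpectrum p.K) _ _
  have h1 := Points.ofScheme_apply_eq_mk p.pt (K := p.K) (str := p.str) (𝟙 _) (Category.id_comp _)
  rw [Points.ofPt_eq_map_ofScheme, ← ht, h1, Points.map_mk]
  obtain ⟨K, str, val⟩ := p
  change _ = Points.mk (⟨K, str, _⟩ : FieldPt F)
  congr 2
  exact (ofSection_app_id val).symm

/-- Every point of a sheaf comes from the spectrum of a field. -/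
theorem exists_field_ofPt {F : Sp S} (x : Points F) :
    ∃ (K : Type u) (_ : Field K) (str : Spec (CommRingCat.of K) ⟶ S)
      (g : (yon S).obj (Over.mk str) ⟶ F), ∀ t : ↥(Over.mk str).left, Points.ofPt g t = x := by
  induction x using Points.ind with
  | h p =>
    exact ⟨p.K, inferInstance, p.str, ofSection p.val, fun t => (mk_eq_ofPt p t).symm⟩

/-- A representable morphism is (representable and) surjective exactly when it is surjective on points. -/
theorem repWith_surjective_iff {F G : Sp S} {f : F ⟶ G} (hf : Representable f) :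
    RepWith @Surjective f ↔ Function.Surjective (Points.map f) := by
  constructor
  · intro h x
    obtain ⟨K, _, str, g, hg⟩ := exists_field_ofPt x
    obtain ⟨V, snd, fst, sq⟩ := hf g
    have : Surjective snd.left := h.2 g fst snd sq
    obtain ⟨v, hv⟩ := this.surj (IsLocalRing.closedPoint K)
    refine ⟨Points.ofPt fst v, ?_⟩
    rw [Points.map_ofPt, sq.w, ofPt_yon_map_comp]
    exact hg _
  · intro h
    refine ⟨hf, fun U V g fst snd sq => ⟨?_⟩⟩
    exact (surjective_map_yon_map_iff snd).1 (surjective_map_of_isPullback sq.flip h)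

theorem surjective_map_of_repWith_surjective {F G : Sp S} {f : F ⟶ G} (hf : RepWith @Surjective f) :
    Function.Surjective (Points.map f) := (repWith_surjective_iff hf.1).1 hf

theorem surjective_ofPt_of_repWith_surjective {F : Sp S} {U : Over S} {p : (yon S).obj U ⟶ F}
    (hp : RepWith @Surjective p) : Function.Surjective (Points.ofPt p) := fun x => by
  obtain ⟨y, hy⟩ := surjective_map_of_repWith_surjective hp x
  obtain ⟨u, rfl⟩ := ofScheme_surjective U y
  exact ⟨u, by rw [Points.ofPt_eq_map_ofScheme, hy]⟩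

theorem surjective_ofPt_iff {F : Sp S} {U : Over S} (p : (yon S).obj U ⟶ F) :
    Function.Surjective (Points.ofPt p) ↔ Function.Surjective (Points.map p) := by
  constructor
  · intro h x
    obtain ⟨u, hu⟩ := h x
    exact ⟨Points.ofScheme U u, by rw [← Points.ofPt_eq_map_ofScheme, hu]⟩
  · intro h x
    obtain ⟨y, hy⟩ := h x
    obtain ⟨u, rfl⟩ := ofScheme_surjective U y
    exact ⟨u, by rw [Points.ofPt_eq_map_ofScheme, hy]⟩

/-- The two projections of the points of a scheme representing `h_U ×_X h_V`. -/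
theorem ofPt_eq_ofPt_iff {X : Sp S} {U V R : Over S} {a : (yon S).obj U ⟶ X} {b : (yon S).obj V ⟶ X}
    {t : R ⟶ U} {s : R ⟶ V} (h : IsPullback ((yon S).map t) ((yon S).map s) a b) (u : ↥U.left) (v : ↥V.left) :
    Points.ofPt a u = Points.ofPt b v ↔ ∃ r : ↥R.left, t.left r = u ∧ s.left r = v := by
  constructor
  · intro e
    rw [Points.ofPt_eq_map_ofScheme a, Points.ofPt_eq_map_ofScheme b] at e
    obtain ⟨p, hp1, hp2⟩ := exists_of_isPullback h _ _ e
    obtain ⟨r, rfl⟩ := ofScheme_surjective R p
    rw [map_yon_map_ofScheme] at hp1 hp2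
    exact ⟨r, ofScheme_injective _ hp1, ofScheme_injective _ hp2⟩
  · rintro ⟨r, rfl, rfl⟩
    rw [← ofPt_yon_map_comp, ← ofPt_yon_map_comp, h.w]

/-- The inverse image under `g : h_T ⟶ G` of the image of a set of points of `F` under a representable `f : F ⟶ G`. -/
theorem preimage_image_map {F G : Sp S} {f : F ⟶ G} {T V : Over S} {g : (yon S).obj T ⟶ G}
    {fst : (yon S).obj V ⟶ F} {snd : V ⟶ T} (sq : IsPullback fst ((yon S).map snd) f g)
    (W : Set (Points F)) :
    Points.ofPt g ⁻¹' (Points.map f '' W) = snd.left '' (Points.ofPt fst ⁻¹' W) := by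
  ext t
  simp only [Set.mem_preimage, Set.mem_image]
  constructor
  · rintro ⟨x, hx, e⟩
    rw [Points.ofPt_eq_map_ofScheme g] at e
    obtain ⟨p, hp1, hp2⟩ := exists_of_isPullback sq _ _ e
    obtain ⟨v, rfl⟩ := ofScheme_surjective V p
    rw [map_yon_map_ofScheme] at hp2
    refine ⟨v, ?_, ofScheme_injective _ hp2⟩
    rw [Points.ofPt_eq_map_ofScheme, hp1]
    exact hx
  · rintro ⟨v, hv, rfl⟩
    refine ⟨_, hv, ?_⟩
    rw [Points.map_ofPt, sq.w, ofPt_yon_map_comp]

/-- A representable universally open morphism is open on points. -/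
theorem isOpenMap_map {F G : Sp S} {f : F ⟶ G} (hf : RepWith @UniversallyOpen f) :
    IsOpenMap (Points.map f) := by
  intro W hW
  rw [Points.isOpen_iff]
  intro T g
  obtain ⟨V, snd, fst, sq⟩ := hf.1 g
  have h1 : UniversallyOpen snd.left := hf.2 g fst snd sq
  rw [preimage_image_map sq W]
  exact snd.left.isOpenMap _ (Points.isOpen_iff.1 hW V fst)

/-- Monotonicity of `RepWith`. -/
theorem repWith_mono {P Q : MorphismProperty Scheme.{u}} (h : ∀ {X Y : Scheme.{u}} (f : X ⟶ Y), P f → Q f)
    {F G : Sp S} {f : F ⟶ G} (hf : RepWith P f) : RepWith Q f :=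
  ⟨hf.1, fun _ _ g fst snd sq => h _ (hf.2 g fst snd sq)⟩

theorem repWith_universallyOpen_of_etale {F G : Sp S} {f : F ⟶ G} (hf : RepWith @Etale f) :
    RepWith @UniversallyOpen f :=
  repWith_mono (fun _ h => by have := h; infer_instance) hf

theorem isOpenMap_ofPt_of_universallyOpen {F : Sp S} {U : Over S} {a : (yon S).obj U ⟶ F}
    (ha : RepWith @UniversallyOpen a) : IsOpenMap (Points.ofPt a) := by
  have : Points.ofPt a = Points.map a ∘ Points.schemeHomeo U := by
    ext u
    exact Points.ofPt_eq_map_ofScheme a u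
  rw [this]
  exact (isOpenMap_map ha).comp (Points.schemeHomeo U).isOpenMap

/-- Representable etale maps from schemes are open on points. -/
theorem isOpenMap_ofPt {F : Sp S} {U : Over S} {a : (yon S).obj U ⟶ F} (ha : RepWith @Etale a) :
    IsOpenMap (Points.ofPt a) :=
  isOpenMap_ofPt_of_universallyOpen (repWith_universallyOpen_of_etale ha)

theorem isQuotientMap_ofPt {F : Sp S} {U : Over S} {p : (yon S).obj U ⟶ F} (hp : RepWith @Etale p)
    (hs : RepWith @Surjective p) : Topology.IsQuotientMap (Points.ofPt p) :=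
  (isOpenMap_ofPt hp).isQuotientMap (Points.continuous_ofPt p) (surjective_ofPt_of_repWith_surjective hs)

theorem isOpenQuotientMap_ofPt {F : Sp S} {U : Over S} {p : (yon S).obj U ⟶ F} (hp : RepWith @Etale p)
    (hs : RepWith @Surjective p) : IsOpenQuotientMap (Points.ofPt p) :=
  ⟨surjective_ofPt_of_repWith_surjective hs, Points.continuous_ofPt p, isOpenMap_ofPt hp⟩

end K609.Points
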