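import Groth.Prelude.Def_AlgSp
import Mathlib.CategoryTheory.MorphismProperty.Descent

/-!
# Locality of `RepWith P` on the base
-/

set_option autoImplicit false

universe u

open CategoryTheory CategoryTheory.Limits AlgebraicGeometry Opposite AlgSp

namespace K609.Loc

variable {S : Scheme.{u}}

/-- Two represented squares: if `f` is representable, `q : W ⟶ G` and `f'` is the base change of `f`, then the
pullback of `f` along `h_T ⟶ G` can be compared with that of `f'` along `h_{T'} ⟶ W`, where `T' = T ×_G W`. -/
theorem repWith_of_desc (P Q : MorphismProperty Scheme.{u}) [P.DescendsAlong Q]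
    {F G W F' : Sp S} {f : F ⟶ G} (hf : Representable f) {q : W ⟶ G} (hq : RepWith Q q)
    {f' : F' ⟶ W} {q' : F' ⟶ F} (sq : IsPullback q' f' f q) (hf' : RepWith P f') : RepWith P f := by
  refine ⟨hf, fun T V g fst snd sqV => ?_⟩
  -- `T' = T ×_G W`
  obtain ⟨T', t, w, sqT⟩ := hq.1 g
  have hQ : Q t.left := hq.2 g w t sqT
  -- `V' = V ×_T T'`
  have h1 : IsPullback ((yon S).map (pullback.fst snd t)) ((yon S).map (pullback.snd snd t))
      ((yon S).map snd) ((yon S).map t) := (IsPullback.of_hasPullback snd t).map (yon S)
  -- `V' = F' ×_W T'`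
  have h2 : IsPullback ((yon S).map (pullback.fst snd t) ≫ fst) ((yon S).map (pullback.snd snd t)) f
      (w ≫ q) := by
    rw [sqT.w]
    exact h1.paste_horiz sqV
  let l : (yon S).obj (pullback snd t) ⟶ F' := sq.lift ((yon S).map (pullback.fst snd t) ≫ fst)
    ((yon S).map (pullback.snd snd t) ≫ w) (by rw [h2.w, Category.assoc])
  have h3 : IsPullback l ((yon S).map (pullback.snd snd t)) f' w := by
    refine IsPullback.of_right (h₁₂ := q') (h₂₂ := q) (v₁₃ := f) ?_ (sq.lift_snd _ _ _) sq
    rw [sq.lift_fst]
    exact h2
  have hP : P (pullback.snd snd t).left := hf'.2 _ _ _ h3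
  have h4 : IsPullback (pullback.snd snd t).left (pullback.fst snd t).left t.left snd.left :=
    ((IsPullback.of_hasPullback snd t).map (Over.forget S)).flip
  exact MorphismProperty.of_isPullback_of_descendsAlong (P := P) (Q := Q) h4 hQ hP

/-- `RepWith P f` may be tested on affine test schemes when `P` is local on the target. -/
theorem repWith_of_affine (P : MorphismProperty Scheme.{u}) [IsZariskiLocalAtTarget P]
    {F G : Sp S} {f : F ⟶ G} (hf : Representable f)
    (h : ∀ ⦃T V : Over S⦄ (g : (yon S).obj T ⟶ G) (fst : (yon S).obj V ⟶ F) (snd : V ⟶ T),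
      IsAffine T.left → IsPullback fst ((yon S).map snd) f g → P snd.left) : RepWith P f := by
  refine ⟨hf, fun T V g fst snd sqV => ?_⟩
  change P snd.left
  rw [IsZariskiLocalAtTarget.iff_of_openCover (P := P) T.left.affineCover]
  intro i
  let T' : Over S := Over.mk (T.left.affineCover.f i ≫ T.hom)
  let t : T' ⟶ T := Over.homMk (T.left.affineCover.f i) rfl
  have h1 : IsPullback ((yon S).map (pullback.fst snd t)) ((yon S).map (pullback.snd snd t))
      ((yon S).map snd) ((yon S).map t) := (IsPullback.of_hasPullback snd t).map (yon S)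
  have h2 := h1.paste_horiz sqV
  have hP : P (pullback.snd snd t).left := h _ _ _ (inferInstanceAs (IsAffine (T.left.affineCover.X i))) h2
  have h3 : IsPullback (pullback.fst snd t).left (pullback.snd snd t).left snd.left t.left :=
    (IsPullback.of_hasPullback snd t).map (Over.forget S)
  change P (pullback.snd snd.left t.left)
  rw [← P.cancel_left_of_respectsIso h3.isoPullback.hom, h3.isoPullback_hom_snd]
  exact hP

end K609.Loc
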