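import Mathlib.AlgebraicGeometry.Morphisms.Separated
import Mathlib.RingTheory.TensorProduct.Maps

/-!
# Fibre products of affine schemes over a separated scheme: affine, and generated by the two factors
-/

set_option autoImplicit false

universe u

open CategoryTheory CategoryTheory.Limits AlgebraicGeometry Opposite TensorProduct

namespace K609.SepAff

variable {S U V W : Scheme.{u}}

/-- `A ⊗ B` for the global sections of two schemes. -/
noncomputable abbrev tens (U V : Scheme.{u}) : CommRingCat.{u} := CommRingCat.of (Γ(U, ⊤) ⊗[ℤ] Γ(V, ⊤))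

noncomputable abbrev inl (U V : Scheme.{u}) : Γ(U, ⊤) ⟶ tens U V :=
  CommRingCat.ofHom (Algebra.TensorProduct.includeLeft (R := ℤ) (S := ℤ) (A := Γ(U, ⊤)) (B := Γ(V, ⊤))).toRingHom

noncomputable abbrev inr (U V : Scheme.{u}) : Γ(V, ⊤) ⟶ tens U V :=
  CommRingCat.ofHom (Algebra.TensorProduct.includeRight (R := ℤ) (A := Γ(U, ⊤)) (B := Γ(V, ⊤))).toRingHom

/-- The ring map `A ⊗ B → Γ(W)` given by two morphisms. -/
noncomputable abbrev mul (p : W ⟶ U) (q : W ⟶ V) : tens U V ⟶ Γ(W, ⊤) :=
  CommRingCat.ofHom (Algebra.TensorProduct.productMap p.appTop.hom.toIntAlgHom q.appTop.hom.toIntAlgHom).toRingHom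

theorem inl_mul (p : W ⟶ U) (q : W ⟶ V) : inl U V ≫ mul p q = p.appTop := by
  ext x
  simp [inl, mul]

theorem inr_mul (p : W ⟶ U) (q : W ⟶ V) : inr U V ≫ mul p q = q.appTop := by
  ext x
  simp [inr, mul]

theorem tens_hom_ext {R : CommRingCat.{u}} {φ ψ : tens U V ⟶ R} (h1 : inl U V ≫ φ = inl U V ≫ ψ)
    (h2 : inr U V ≫ φ = inr U V ≫ ψ) : φ = ψ := by
  apply CommRingCat.hom_ext
  have key : φ.hom.toIntAlgHom = ψ.hom.toIntAlgHom := by
    apply Algebra.TensorProduct.ext'
    intro a b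
    have ha : φ.hom (a ⊗ₜ 1) = ψ.hom (a ⊗ₜ 1) := congrArg (fun f => f.hom a) h1
    have hb : φ.hom (1 ⊗ₜ b) = ψ.hom (1 ⊗ₜ b) := congrArg (fun f => f.hom b) h2
    have e : a ⊗ₜ[ℤ] b = (a ⊗ₜ 1) * (1 ⊗ₜ b) := by simp
    change φ.hom (a ⊗ₜ b) = ψ.hom (a ⊗ₜ b)
    rw [e, map_mul, map_mul, ha, hb]
  exact RingHom.ext fun x => DFunLike.congr_fun key x

/-- the two projections of `Spec (A ⊗ B)` -/
noncomputable def r₁ (U V : Scheme.{u}) [IsAffine U] : Spec (tens U V) ⟶ U := Spec.map (inl U V) ≫ U.isoSpec.inv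

noncomputable def r₂ (U V : Scheme.{u}) [IsAffine V] : Spec (tens U V) ⟶ V := Spec.map (inr U V) ≫ V.isoSpec.inv

/-- The morphism to `Spec (A ⊗ B)` given by two morphisms. -/
noncomputable def toTens (p : W ⟶ U) (q : W ⟶ V) : W ⟶ Spec (tens U V) := W.toSpecΓ ≫ Spec.map (mul p q)

theorem toTens_r₁ [IsAffine U] (p : W ⟶ U) (q : W ⟶ V) : toTens p q ≫ r₁ U V = p := by
  rw [toTens, r₁, Category.assoc, ← Spec.map_comp_assoc, inl_mul, ← Scheme.toSpecΓ_naturality_assoc,
    ← Scheme.isoSpec_hom, Iso.hom_inv_id, Category.comp_id]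

theorem toTens_r₂ [IsAffine V] (p : W ⟶ U) (q : W ⟶ V) : toTens p q ≫ r₂ U V = q := by
  rw [toTens, r₂, Category.assoc, ← Spec.map_comp_assoc, inr_mul, ← Scheme.toSpecΓ_naturality_assoc,
    ← Scheme.isoSpec_hom, Iso.hom_inv_id, Category.comp_id]

theorem hom_ext [IsAffine U] [IsAffine V] {c d : W ⟶ Spec (tens U V)} (h1 : c ≫ r₁ U V = d ≫ r₁ U V)
    (h2 : c ≫ r₂ U V = d ≫ r₂ U V) : c = d := by
  have key : ∀ {R : CommRingCat.{u}} (i : R ⟶ tens U V), c ≫ Spec.map i = d ≫ Spec.map i →
      i ≫ (Scheme.ΓSpecIso (tens U V)).inv ≫ c.appTop = i ≫ (Scheme.ΓSpecIso (tens U V)).inv ≫ d.appTop := by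
    intro R i hi
    have := congrArg (fun f : W ⟶ Spec R => f.appTop) hi
    simp only [Scheme.Hom.comp_appTop] at this
    rw [Scheme.ΓSpecIso_inv_naturality_assoc, Scheme.ΓSpecIso_inv_naturality_assoc, this]
  have h1' : c ≫ Spec.map (inl U V) = d ≫ Spec.map (inl U V) := by
    rw [r₁, ← Category.assoc, ← Category.assoc] at h1
    exact (cancel_mono _).1 h1
  have h2' : c ≫ Spec.map (inr U V) = d ≫ Spec.map (inr U V) := by
    rw [r₂, ← Category.assoc, ← Category.assoc] at h2
    exact (cancel_mono _).1 h2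
  have := tens_hom_ext (key _ h1') (key _ h2')
  exact ext_of_isAffine ((cancel_epi _).1 this)

theorem toTens_appTop (p : W ⟶ U) (q : W ⟶ V) :
    (Scheme.ΓSpecIso (tens U V)).inv ≫ (toTens p q).appTop = mul p q := by
  rw [toTens, Scheme.Hom.comp_appTop, ← Scheme.ΓSpecIso_inv_naturality_assoc, Scheme.toSpecΓ_appTop,
    Iso.inv_hom_id, Category.comp_id]

theorem surjective_mul_of_surjective (p : W ⟶ U) (q : W ⟶ V) (h : Function.Surjective (toTens p q).appTop) :
    Function.Surjective (Algebra.TensorProduct.productMap p.appTop.hom.toIntAlgHom q.appTop.hom.toIntAlgHom) := by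
  intro w
  obtain ⟨x, hx⟩ := h w
  refine ⟨(Scheme.ΓSpecIso (tens U V)).hom x, ?_⟩
  change (mul p q) ((Scheme.ΓSpecIso (tens U V)).hom x) = w
  rw [← toTens_appTop, CommRingCat.comp_apply, ← CommRingCat.comp_apply (Scheme.ΓSpecIso (tens U V)).hom,
    Iso.hom_inv_id, CommRingCat.id_apply, hx]

/-- Over a separated scheme `S`, a closed subscheme of `U ×_S V` for `U`, `V` affine is affine and its ring is
generated by those of `U` and `V`. -/
theorem isAffine_and_surjective [S.IsSeparated] [IsAffine U] [IsAffine V] (f : U ⟶ S) (g : V ⟶ S)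
    (p : W ⟶ U) (q : W ⟶ V) (h : p ≫ f = q ≫ g) [IsClosedImmersion (pullback.lift p q h)] :
    IsAffine W ∧ Function.Surjective
      (Algebra.TensorProduct.productMap p.appTop.hom.toIntAlgHom q.appTop.hom.toIntAlgHom) := by
  let ι := equalizer.ι (r₁ U V ≫ f) (r₂ U V ≫ g)
  let d : W ⟶ equalizer (r₁ U V ≫ f) (r₂ U V ≫ g) := equalizer.lift (toTens p q) (by
    rw [← Category.assoc, ← Category.assoc, toTens_r₁, toTens_r₂, h])
  have hd : d ≫ ι = toTens p q := equalizer.lift_ι _ _
  let e : equalizer (r₁ U V ≫ f) (r₂ U V ≫ g) ⟶ pullback f g := pullback.lift (ι ≫ r₁ U V) (ι ≫ r₂ U V) (by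
    rw [Category.assoc, Category.assoc]; exact equalizer.condition _ _)
  have he1 : e ≫ pullback.fst f g = ι ≫ r₁ U V := pullback.lift_fst _ _ _
  have he2 : e ≫ pullback.snd f g = ι ≫ r₂ U V := pullback.lift_snd _ _ _
  have hmono : Mono e := ⟨fun a b hab => by
    apply (cancel_mono ι).1
    apply hom_ext
    · rw [Category.assoc, Category.assoc, ← he1, ← Category.assoc, ← Category.assoc, hab]
    · rw [Category.assoc, Category.assoc, ← he2, ← Category.assoc, ← Category.assoc, hab]⟩
  have hde : d ≫ e = pullback.lift p q h := by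
    apply pullback.hom_ext
    · rw [Category.assoc, he1, ← Category.assoc, hd, toTens_r₁, pullback.lift_fst]
    · rw [Category.assoc, he2, ← Category.assoc, hd, toTens_r₂, pullback.lift_snd]
  have h1 : IsClosedImmersion (d ≫ e) := by rw [hde]; infer_instance
  have h2 : IsClosedImmersion d := IsClosedImmersion.of_comp d e
  have h3 : IsClosedImmersion (toTens p q) := by rw [← hd]; infer_instance
  have := IsClosedImmersion.isAffine_surjective_of_isAffine (toTens p q)
  exact ⟨this.1, surjective_mul_of_surjective p q this.2⟩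

/-- Conversely: if `U` and `V` are the same affine scheme `T` over `S`, `W ⟶ T ×_S T` and the ring of `W` is generated
by the two copies of that of `T`, then the pullback `E ⟶ T` of `W` along the diagonal is a closed immersion. -/
theorem isClosedImmersion_of_surjective {T E : Scheme.{u}} [IsAffine T] [IsAffine W] (p q : W ⟶ T)
    (hpq : Function.Surjective
      (Algebra.TensorProduct.productMap p.appTop.hom.toIntAlgHom q.appTop.hom.toIntAlgHom))
    (e : E ⟶ W) [IsClosedImmersion e] (s : E ⟶ T) (h1 : e ≫ p = s) (h2 : e ≫ q = s) : IsClosedImmersion s := by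
  obtain ⟨hE, he⟩ := IsClosedImmersion.isAffine_surjective_of_isAffine e
  refine IsClosedImmersion.of_surjective_of_isAffine s ?_
  intro x
  obtain ⟨w, rfl⟩ := he x
  obtain ⟨t, rfl⟩ := hpq w
  induction t using TensorProduct.induction_on with
  | zero => exact ⟨0, by simp⟩
  | tmul a b =>
    refine ⟨a * b, ?_⟩
    have e1 : s.appTop a = e.appTop (p.appTop a) := by
      rw [← h1, Scheme.Hom.comp_appTop, CommRingCat.comp_apply]
    have e2 : s.appTop b = e.appTop (q.appTop b) := by
      rw [← h2, Scheme.Hom.comp_appTop, CommRingCat.comp_apply]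
    rw [map_mul, e1, e2, ← map_mul]
    simp [Algebra.TensorProduct.productMap_apply_tmul]
  | add x y hx hy =>
    obtain ⟨a, ha⟩ := hx
    obtain ⟨b, hb⟩ := hy
    exact ⟨a + b, by rw [map_add, ha, hb, map_add, map_add]⟩

end K609.SepAff
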