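import Groth.Agent.AlgSp.K609.Diag
import Groth.Agent.AlgSp.K609.Loc
import Groth.Agent.AlgSp.K609.SepAff
import Groth.Agent.Desc.MorDescent

/-!
# Separation of algebraic spaces in terms of fibre products of charts
-/

set_option autoImplicit false

universe u

open CategoryTheory CategoryTheory.Limits AlgebraicGeometry Opposite AlgSp

namespace K609.Sep

open K609.Diag K609.Loc

variable {S : Scheme.{u}}

/-- `P ⟶ U ×_S V` is a monomorphism when `P` represents `h_U ×_X h_V`. -/
theorem mono_lift_left {X : Sp S} {U V P : Over S} {a : (yon S).obj U ⟶ X} {b : (yon S).obj V ⟶ X}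
    {fst : P ⟶ U} {snd : P ⟶ V} (h : IsPullback ((yon S).map fst) ((yon S).map snd) a b) :
    Mono (pullback.lift fst.left snd.left ((Over.w fst).trans (Over.w snd).symm) :
      P.left ⟶ pullback U.hom V.hom) := by
  have h1 : Mono (prod.lift fst snd) := ⟨fun x y hxy => by
    apply (yon S).map_injective
    apply h.hom_ext
    · rw [← Functor.map_comp, ← Functor.map_comp, ← prod.lift_fst fst snd, ← Category.assoc, hxy,
        Category.assoc]
    · rw [← Functor.map_comp, ← Functor.map_comp, ← prod.lift_snd fst snd, ← Category.assoc, hxy,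
        Category.assoc]⟩
  have h2 : Mono (prod.lift fst snd).left := inferInstance
  rw [← lift_left_comp_prodLeftIsoPullback]
  infer_instance

theorem isSeparated_snd_left {X : Sp S} {U V P : Over S} {a : (yon S).obj U ⟶ X} {b : (yon S).obj V ⟶ X}
    {fst : P ⟶ U} {snd : P ⟶ V} (h : IsPullback ((yon S).map fst) ((yon S).map snd) a b)
    [IsSeparated U.hom] : IsSeparated snd.left := by
  have := mono_lift_left h
  have e : snd.left = pullback.lift fst.left snd.left ((Over.w fst).trans (Over.w snd).symm) ≫
    pullback.snd U.hom V.hom := (pullback.lift_snd _ _ _).symm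
  rw [e]
  infer_instance

/-- A representable morphism from a scheme separated over `S` is separated. -/
theorem repWith_isSeparated {X : Sp S} {U : Over S} {a : (yon S).obj U ⟶ X} (ha : Representable a)
    [IsSeparated U.hom] : RepWith @IsSeparated a := by
  refine ⟨ha, fun T V g fst snd sq => ?_⟩
  obtain ⟨φ, rfl⟩ := (yon S).map_surjective fst
  exact isSeparated_snd_left sq

/-- The composite of the two maps `prod.map`. -/
theorem repWith_prod_map (P : MorphismProperty Scheme.{u}) [P.IsStableUnderBaseChange] [P.IsMultiplicative]
    {X Y X' Y' : Sp S} {f : X ⟶ X'} {g : Y ⟶ Y'} (hf : RepWith P f) (hg : RepWith P g) :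
    RepWith P (prod.map f g) := by
  have e : prod.map f g = prod.map f (𝟙 Y) ≫ prod.map (𝟙 X') g := by
    apply Limits.prod.hom_ext <;> simp
  rw [e]
  refine MorphismProperty.comp_mem _ _ _ ?_ ?_
  · exact (RepWith P).of_isPullback (IsPullback.of_prod_fst_with_id f Y) hf
  · have sq : IsPullback prod.snd (prod.map (𝟙 X') g) g prod.snd := by
      refine (IsPullback.of_prod_fst_with_id g X').of_iso (prod.braiding _ _) (Iso.refl _) (prod.braiding _ _)
        (Iso.refl _) (by simp [prod.lift_snd]) (by simp) (by simp) (by simp [prod.lift_snd])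
    exact (RepWith P).of_isPullback sq hg

/-- The class of surjective flat morphisms locally of finite presentation. -/
abbrev Fppf : MorphismProperty Scheme.{u} := @Surjective ⊓ @Flat ⊓ @LocallyOfFinitePresentation

theorem fppf_isMultiplicative : (Fppf : MorphismProperty Scheme.{u}).IsMultiplicative := by
  have : MorphismProperty.ContainsIdentities (@LocallyOfFinitePresentation : MorphismProperty Scheme.{u}) :=
    ⟨fun X => (inferInstance : LocallyOfFinitePresentation (𝟙 X))⟩
  have : MorphismProperty.IsMultiplicative (@LocallyOfFinitePresentation : MorphismProperty Scheme.{u}) := {}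
  infer_instance

theorem repWith_fppf_of_etale {F G : Sp S} {f : F ⟶ G} (hf : RepWith @Etale f) (hs : RepWith @Surjective f) :
    RepWith Fppf f := by
  refine ⟨hf.1, fun T V g fst snd sq => ?_⟩
  have h1 : Etale snd.left := hf.2 g fst snd sq
  have h2 : Surjective snd.left := hs.2 g fst snd sq
  exact ⟨⟨h2, (inferInstance : Flat snd.left)⟩, (inferInstance : LocallyOfFinitePresentation snd.left)⟩

/-- If `U ×_X U ⟶ U ×_S U` has a property `P` which is stable under base change and descends along fppf morphisms,
for a representable fppf-covering `h_U ⟶ X`, then the diagonal of `X` has `P`. -/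
theorem repWith_diag_of_chart (P : MorphismProperty Scheme.{u}) [P.IsStableUnderBaseChange]
    [P.DescendsAlong Fppf] {X : Sp S} (hX : Representable (Limits.diag X)) {U R : Over S}
    {p : (yon S).obj U ⟶ X} (hp : RepWith Fppf p) {t s : R ⟶ U}
    (h : IsPullback ((yon S).map t) ((yon S).map s) p p)
    (hP : P (pullback.lift t.left s.left ((Over.w t).trans (Over.w s).symm) : R.left ⟶ pullback U.hom U.hom)) :
    RepWith P (Limits.diag X) := by
  have : P.RespectsIso := MorphismProperty.IsStableUnderBaseChange.respectsIso
  have : (Fppf : MorphismProperty Scheme.{u}).RespectsIso :=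
    MorphismProperty.IsStableUnderBaseChange.respectsIso
  have := fppf_isMultiplicative.{u}
  refine repWith_of_desc P Fppf hX (q := prodComparison (yon S) U U ≫ prod.map p p) ?_
    (isPullback_diag_yon h) ?_
  · refine MorphismProperty.RespectsIso.precomp _ _ _ ?_
    exact repWith_prod_map Fppf hp hp
  · rw [repWith_yon_map_iff]
    rw [← lift_left_comp_prodLeftIsoPullback] at hP
    exact (P.cancel_right_of_respectsIso _ _).1 hP

theorem quasiCompact_descendsAlong :
    MorphismProperty.DescendsAlong (@QuasiCompact : MorphismProperty Scheme.{u}) Fppf := by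
  have := Groth.Agent.Desc.MorDescent.descendsAlong_quasiCompact.{u}
  infer_instance

/-- Quasi-separatedness of `X` from quasi-compactness of one projection `R ⟶ U` of a chart. -/
theorem isQuasiSeparatedSp_of_chart {X : Sp S} (hX : IsAlgSpace X) {R U : Over S}
    {p : (yon S).obj U ⟶ X} (hp : RepWith @Etale p) (hs : RepWith @Surjective p)
    [QuasiSeparatedSpace ↥U.left] {s t : R ⟶ U}
    (hR : IsPullback ((yon S).map t) ((yon S).map s) p p) [QuasiCompact t.left] :
    IsQuasiSeparatedSp X := by
  have := quasiCompact_descendsAlong.{u}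
  refine repWith_diag_of_chart @QuasiCompact hX.diag (repWith_fppf_of_etale hp hs) hR ?_
  have h1 : QuasiCompact (pullback.lift t.left s.left ((Over.w t).trans (Over.w s).symm) ≫
      pullback.fst U.hom U.hom) := by
    rw [pullback.lift_fst]; infer_instance
  have h2 : QuasiSeparated U.hom := inferInstance
  exact QuasiCompact.of_comp _ (pullback.fst U.hom U.hom)

/-- The fibre product of a scheme `T` with itself over `X`, along two maps, for an algebraic space `X`. -/
theorem exists_isPullback_yon {X : Sp S} (hX : Representable (Limits.diag X)) {U V : Over S}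
    (a : (yon S).obj U ⟶ X) (b : (yon S).obj V ⟶ X) :
    ∃ (W : Over S) (p : W ⟶ U) (q : W ⟶ V), IsPullback ((yon S).map p) ((yon S).map q) a b := by
  obtain ⟨W, q, p, sq⟩ := Functor.relativelyRepresentable.of_diag hX a b
  obtain ⟨p, rfl⟩ := (yon S).map_surjective p
  exact ⟨W, p, q, sq⟩

/-- `X` is quasi-separated over `S` when all `h_U ×_X h_V` with `U`, `V` affine are quasi-compact. -/
theorem isQuasiSeparatedSp_of_affine {X : Sp S} (hX : Representable (Limits.diag X))
    (h : ∀ (U V P : Over S) (a : (yon S).obj U ⟶ X) (b : (yon S).obj V ⟶ X)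
      (fst : P ⟶ U) (snd : P ⟶ V), IsAffine U.left → IsAffine V.left →
      IsPullback ((yon S).map fst) ((yon S).map snd) a b → CompactSpace ↥P.left) :
    IsQuasiSeparatedSp X := by
  refine repWith_of_affine _ hX fun T E g fst snd hT sq => ?_
  obtain ⟨W, p, q, hW⟩ := exists_isPullback_yon hX (g ≫ prod.fst) (g ≫ prod.snd)
  have : CompactSpace ↥W.left := h T T W _ _ p q hT hT hW
  obtain ⟨e, he⟩ := exists_isPullback_left_of_diag g hW sq
  have h1 : QuasiCompact e.left := MorphismProperty.of_isPullback he.flip
    (inferInstance : QuasiCompact (pullback.diagonal T.hom))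
  have : CompactSpace ↥E.left := QuasiCompact.compactSpace_of_compactSpace e.left
  exact (quasiCompact_iff_compactSpace snd.left).2 inferInstance

/-- `h_U ×_X h_V` is quasi-compact for `U`, `V` quasi-compact, `X` quasi-separated over `S` and `S` quasi-separated. -/
theorem compactSpace_pullback [QuasiSeparatedSpace ↥S] {X : Sp S} (hX : IsQuasiSeparatedSp X)
    {U V P : Over S} {a : (yon S).obj U ⟶ X} {b : (yon S).obj V ⟶ X} {fst : P ⟶ U} {snd : P ⟶ V}
    [CompactSpace ↥U.left] [CompactSpace ↥V.left]
    (h : IsPullback ((yon S).map fst) ((yon S).map snd) a b) : CompactSpace ↥P.left := by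
  have h1 : QuasiCompact (pullback.lift fst.left snd.left ((Over.w fst).trans (Over.w snd).symm) :
      P.left ⟶ pullback U.hom V.hom) := prop_of_repWith_diag @QuasiCompact hX h
  have h2 : QuasiCompact U.hom := inferInstance
  exact QuasiCompact.compactSpace_of_compactSpace
    (pullback.lift fst.left snd.left ((Over.w fst).trans (Over.w snd).symm))

/-- `X` is separated over `S` when all `h_U ×_X h_V` with `U`, `V` affine are affine with ring generated by those of
`U` and `V`. -/
theorem isSeparatedSp_of_affine {X : Sp S} (hX : Representable (Limits.diag X))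
    (h : ∀ (U V P : Over S) (a : (yon S).obj U ⟶ X) (b : (yon S).obj V ⟶ X)
      (fst : P ⟶ U) (snd : P ⟶ V), IsAffine U.left → IsAffine V.left →
      IsPullback ((yon S).map fst) ((yon S).map snd) a b →
        IsAffine P.left ∧ Function.Surjective
          (Algebra.TensorProduct.productMap fst.left.appTop.hom.toIntAlgHom snd.left.appTop.hom.toIntAlgHom)) :
    IsSeparatedSp X := by
  refine repWith_of_affine _ hX fun T E g fst snd hT sq => ?_
  obtain ⟨W, p, q, hW⟩ := exists_isPullback_yon hX (g ≫ prod.fst) (g ≫ prod.snd)
  obtain ⟨hWa, hWs⟩ := h T T W _ _ p q hT hT hW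
  obtain ⟨e, he⟩ := exists_isPullback_left_of_diag g hW sq
  have h0 : IsClosedImmersion (pullback.diagonal T.hom) := inferInstance
  have h1 : IsClosedImmersion e.left := MorphismProperty.of_isPullback he.flip h0
  refine SepAff.isClosedImmersion_of_surjective p.left q.left hWs e.left snd.left ?_ ?_
  · have := congrArg (· ≫ pullback.fst T.hom T.hom) he.w
    simpa [pullback.lift_fst] using this
  · have := congrArg (· ≫ pullback.snd T.hom T.hom) he.w
    simpa [pullback.lift_snd] using this

/-- `h_U ×_X h_V` for `U`, `V` affine and `X` separated over the separated base `S`. -/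
theorem affine_pullback [S.IsSeparated] {X : Sp S} (hX : IsSeparatedSp X)
    {U V P : Over S} {a : (yon S).obj U ⟶ X} {b : (yon S).obj V ⟶ X} {fst : P ⟶ U} {snd : P ⟶ V}
    [IsAffine U.left] [IsAffine V.left]
    (h : IsPullback ((yon S).map fst) ((yon S).map snd) a b) :
    IsAffine P.left ∧ Function.Surjective
      (Algebra.TensorProduct.productMap fst.left.appTop.hom.toIntAlgHom snd.left.appTop.hom.toIntAlgHom) := by
  have h1 : IsClosedImmersion (pullback.lift fst.left snd.left ((Over.w fst).trans (Over.w snd).symm) :
      P.left ⟶ pullback U.hom V.hom) := prop_of_repWith_diag @IsClosedImmersion hX h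
  exact SepAff.isAffine_and_surjective U.hom V.hom fst.left snd.left _

end K609.Sep
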