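import Groth.Agent.AlgSp.K609.Points
import Mathlib.AlgebraicGeometry.Morphisms.Descent

/-!
# Quasi-compact algebraic spaces, affine charts, quasi-compact open neighbourhoods of points
-/

set_option autoImplicit false

universe u

open CategoryTheory CategoryTheory.Limits AlgebraicGeometry Opposite AlgSp TopologicalSpace

namespace K609.QC

variable {S : Scheme.{u}}

/-- Composing a chart with an etale morphism of schemes. -/
theorem repWith_yon_map_comp (P : MorphismProperty Scheme.{u}) [P.IsStableUnderBaseChange] [P.IsMultiplicative]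
    {F : Sp S} {U V : Over S} (φ : V ⟶ U) (hφ : P φ.left) {p : (yon S).obj U ⟶ F} (hp : RepWith P p) :
    RepWith P ((yon S).map φ ≫ p) :=
  MorphismProperty.comp_mem _ _ _ ((repWith_yon_map_iff P φ).2 hφ) hp

/-- A quasi-compact sheaf has a quasi-compact space of points. -/
theorem compactSpace_points {F : Sp S} (h : IsQuasiCompactSp F) : CompactSpace (Points F) := by
  obtain ⟨U, p, -, hs, hc⟩ := h
  have : CompactSpace ↥U.left := hc
  exact Function.Surjective.compactSpace (Points.continuous_ofPt p)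
    (K609.Points.surjective_ofPt_of_repWith_surjective hs)

/-- Restricting a chart to an open of the chart whose image is everything. -/
theorem repWith_restrict {F : Sp S} {U : Over S} {p : (yon S).obj U ⟶ F} (hp : RepWith @Etale p)
    (hrep : ∀ {V : Over S} (g : (yon S).obj V ⟶ F), Representable g)
    {V : Over S} (φ : V ⟶ U) (hφ : Etale φ.left)
    (hsurj : ∀ x : Points F, ∃ v : ↥V.left, Points.ofPt p (φ.left v) = x) :
    RepWith @Etale ((yon S).map φ ≫ p) ∧ RepWith @Surjective ((yon S).map φ ≫ p) := by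
  refine ⟨repWith_yon_map_comp _ φ hφ hp, (K609.Points.repWith_surjective_iff (hrep _)).2 ?_⟩
  rw [← K609.Points.surjective_ofPt_iff]
  intro x
  obtain ⟨v, hv⟩ := hsurj x
  exact ⟨v, by rw [K609.Points.ofPt_yon_map_comp, hv]⟩

/-- An algebraic space with quasi-compact space of points is quasi-compact. -/
theorem isQuasiCompactSp_of_compactSpace {F : Sp S} (hF : IsAlgSpace F) [CompactSpace (Points F)] :
    IsQuasiCompactSp F := by
  obtain ⟨U, p, hp, hs⟩ := hF.atlas
  have hU : ∀ u : ↥U.left, ∃ V : U.left.affineOpens, u ∈ V.1 := fun u => by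
    obtain ⟨V, hV, hu, -⟩ := exists_isAffineOpen_mem_and_subset (X := U.left) (x := u) (U := ⊤) trivial
    exact ⟨⟨V, hV⟩, hu⟩
  obtain ⟨t, ht⟩ := isCompact_univ.elim_finite_subcover (X := Points F)
    (fun V : U.left.affineOpens => Points.ofPt p '' (V.1 : Set ↥U.left))
    (fun V => K609.Points.isOpenMap_ofPt hp _ V.1.isOpen)
    (fun x _ => by
      obtain ⟨u, rfl⟩ := K609.Points.surjective_ofPt_of_repWith_surjective hs x
      obtain ⟨V, hV⟩ := hU u
      exact Set.mem_iUnion.2 ⟨V, u, hV, rfl⟩)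
  let W : U.left.Opens := ⨆ V ∈ t, V.1
  let V : Over S := Over.mk (W.ι ≫ U.hom)
  let φ : V ⟶ U := Over.homMk W.ι rfl
  have hφ : Etale φ.left := show Etale W.ι from inferInstance
  have hsurj : ∀ x : Points F, ∃ v : ↥V.left, Points.ofPt p (φ.left v) = x := fun x => by
    obtain ⟨A, hA, u, hu, rfl⟩ := Set.mem_iUnion₂.1 (ht (Set.mem_univ x))
    have huW : u ∈ W := by
      simp only [W, Opens.mem_iSup]
      exact ⟨A, hA, hu⟩
    exact ⟨⟨u, huW⟩, rfl⟩
  have := repWith_restrict hp hF.representable_from_yon φ hφ hsurj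
  refine ⟨V, _, this.1, this.2, ?_⟩
  have hW : IsCompact (W : Set ↥U.left) := by
    simp only [W, Opens.coe_iSup]
    exact t.finite_toSet.isCompact_biUnion fun A _ => A.2.isCompact
  exact isCompact_iff_compactSpace.1 hW

theorem isQuasiCompactSp_iff {F : Sp S} (hF : IsAlgSpace F) :
    IsQuasiCompactSp F ↔ CompactSpace (Points F) :=
  ⟨compactSpace_points, fun _ => isQuasiCompactSp_of_compactSpace hF⟩

/-- A quasi-compact sheaf has an affine etale chart. -/
theorem exists_affine_chart {F : Sp S} (h : IsQuasiCompactSp F) :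
    ∃ (U : Over S) (p : (yon S).obj U ⟶ F), IsAffine U.left ∧ RepWith @Etale p ∧ RepWith @Surjective p := by
  obtain ⟨U, p, hp, hs, hc⟩ := h
  have : CompactSpace ↥U.left := hc
  have : IsZariskiLocalAtSource @Etale.{u} :=
    HasRingHomProperty.instIsZariskiLocalAtSource (Q := RingHom.Etale)
  obtain ⟨Y, q, hq1, hq2, hq3⟩ := Scheme.exists_hom_isAffine_of_isZariskiLocalAtSource @Etale U.left
  let φ : Over.mk (q ≫ U.hom) ⟶ U := Over.homMk q rfl
  exact ⟨Over.mk (q ≫ U.hom), (yon S).map φ ≫ p, hq3, repWith_yon_map_comp _ φ hq2 hp,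
    repWith_yon_map_comp _ φ hq1 hs⟩

theorem isQuasiCompactSp_iff_exists_affine_chart {F : Sp S} :
    IsQuasiCompactSp F ↔ ∃ (U : Over S) (p : (yon S).obj U ⟶ F),
      IsAffine U.left ∧ RepWith @Etale p ∧ RepWith @Surjective p := by
  refine ⟨exists_affine_chart, ?_⟩
  rintro ⟨U, p, hU, hp, hs⟩
  exact ⟨U, p, hp, hs, inferInstance⟩

/-- Every point of an algebraic space has a fundamental system of quasi-compact open neighbourhoods. -/
theorem exists_isOpen_isCompact_nhd {F : Sp S} (hF : IsAlgSpace F) (x : Points F)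
    (W : Set (Points F)) (hW : IsOpen W) (hx : x ∈ W) :
    ∃ V : Set (Points F), IsOpen V ∧ IsCompact V ∧ x ∈ V ∧ V ⊆ W := by
  obtain ⟨U, p, hp, hs⟩ := hF.atlas
  obtain ⟨u, rfl⟩ := K609.Points.surjective_ofPt_of_repWith_surjective hs x
  obtain ⟨V, hV, hu, hVW⟩ := exists_isAffineOpen_mem_and_subset (X := U.left) (x := u)
    (U := ⟨Points.ofPt p ⁻¹' W, hW.preimage (Points.continuous_ofPt p)⟩) hx
  exact ⟨Points.ofPt p '' (V : Set ↥U.left), K609.Points.isOpenMap_ofPt hp _ V.isOpen,
    hV.isCompact.image (Points.continuous_ofPt p), ⟨u, hu, rfl⟩, Set.image_subset_iff.2 hVW⟩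

/-- The space of points of an algebraic space is locally compact in the sense of quasi-compact neighbourhoods. -/
theorem locallyCompactSpace_points {F : Sp S} (hF : IsAlgSpace F) : LocallyCompactSpace (Points F) where
  local_compact_nhds x n hn := by
    obtain ⟨W, hWn, hW, hx⟩ := mem_nhds_iff.1 hn
    obtain ⟨V, hV, hVc, hxV, hVW⟩ := exists_isOpen_isCompact_nhd hF x W hW hx
    exact ⟨V, hV.mem_nhds hxV, hVW.trans hWn, hVc⟩

end K609.QC
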