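import Groth.Agent.AlgSp.K609.Slice
import Groth.Agent.AlgSp.K609.Points
import Groth.Agent.AlgSp.K594.Atlas
import Groth.Agent.AlgSp.K594.Fib
import Groth.Agent.AlgSp.K597.LocP
import Groth.Agent.AlgSp.K597.EtLoc
import Groth.Prelude.Def_AlgSpCov

/-!
# Fppf descent of algebraic spaces, from effectivity of flat equivalence relations

* `H10103` : quotients of schemes by flat lfp equivalence relations are algebraic spaces (S10103).
* `isAlgSpace_of_repWith` : a sheaf with a representable flat lfp surjective map from a scheme.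
* `isAlgSpace_of_repWith_family` : the same for families.
* `isAlgSpace_of_cover` : S10138; `isAlgSpace_of_base` : S10105 without the size hypotheses.
-/

set_option autoImplicit false
set_option backward.isDefEq.respectTransparency.types false

universe u

open CategoryTheory CategoryTheory.Limits AlgebraicGeometry Opposite AlgSp

namespace K609.FppfDesc

open K594.Elem K594.Cover K594.Basic K594.Quot K594.Atlas K609.Points

variable {S : Scheme.{u}}

/-- Effectivity of flat equivalence relations (the statement of S10103). -/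
def H10103 : Prop :=
  ∀ (S : Scheme.{u}) (R U : Over S) (s t : R ⟶ U) (_ : IsEqvRel s t) (_ : Flat s.left)
    (_ : LocallyOfFinitePresentation s.left) (_ : Flat t.left) (_ : LocallyOfFinitePresentation t.left),
    IsAlgSpace (QuotSh.quot Scheme.fppfPrecoverage s t)

/-- A locally surjective map from a representable sheaf with kernel pair `R` identifies the target with `U/R`. -/
theorem exists_iso_quot {F : Sp S} {R U : Over S} (q : (yon S).obj U ⟶ F) (hq : Sheaf.IsLocallySurjective q)
    {s t : R ⟶ U} (sq : IsPullback ((yon S).map t) ((yon S).map s) q q) :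
    ∃ φ : QuotSh.quot Scheme.fppfPrecoverage s t ⟶ F, π s t ≫ φ = q ∧ IsIso φ := by
  have h := K594.EqvRel.isEqvRel_of_isPullback q s t sq
  obtain ⟨φ, hφ⟩ := exists_desc s t q sq.w.symm
  have hφ' : ∀ {T : Over S} (z : ((yon S).obj U).obj.obj (op T)),
      φ.hom.app (op T) ((π s t).hom.app (op T) z) = q.hom.app (op T) z := fun {T} z => by
    have h0 := comp_app (π s t) φ z
    rw [hφ] at h0
    exact h0.symm
  refine ⟨φ, hφ, K609.Slice.isIso_of_bijective φ fun T => ⟨fun x y hxy => ?_, fun y => ?_⟩⟩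
  · -- injectivity
    obtain ⟨T₁, g₁, a, hg₁, ha⟩ := exists_lift s t x
    obtain ⟨T₂, g₂, b, hg₂, hb⟩ := exists_lift s t ((QuotSh.quot Scheme.fppfPrecoverage s t).obj.map g₁.op y)
    have ha' : (π s t).hom.app (op T₂) ⟨g₂ ≫ a⟩ =
        (QuotSh.quot Scheme.fppfPrecoverage s t).obj.map g₂.op
          ((QuotSh.quot Scheme.fppfPrecoverage s t).obj.map g₁.op x) := by
      rw [← ha, ← app_map]
      rfl
    refine (hg₁.comp hg₂).ext _ ?_
    rw [map_comp_apply, map_comp_apply, ← ha', ← hb]
    have e1 : q.hom.app (op T₂) ⟨g₂ ≫ a⟩ = q.hom.app (op T₂) ⟨b⟩ := by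
      have e2 := hφ' (T := T₂) ⟨g₂ ≫ a⟩
      have e3 := hφ' (T := T₂) ⟨b⟩
      refine e2.symm.trans (Eq.trans ?_ e3)
      refine (congrArg (φ.hom.app (op T₂)) ha').trans (Eq.trans ?_ (congrArg (φ.hom.app (op T₂)) hb).symm)
      rw [app_map, app_map, app_map, app_map, hxy]
    obtain ⟨⟨r⟩, h1, h2⟩ := exists_section_of_isPullback sq T₂ ⟨g₂ ≫ a⟩ ⟨b⟩ e1
    exact (app_π_eq_iff s t h _ _).2 ⟨r, congrArg ULift.down h1, congrArg ULift.down h2⟩
  · -- surjectivity
    obtain ⟨T₁, g₁, ⟨a⟩, hg₁, ha⟩ := (isLocallySurjective_iff q).1 hq T y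
    obtain ⟨x, hx⟩ := hg₁.glue (QuotSh.quot Scheme.fppfPrecoverage s t) ((π s t).hom.app (op T₁) ⟨a⟩) (by
      intro Z c d hcd
      rw [← app_map, ← app_map]
      change (π s t).hom.app (op Z) ⟨c ≫ a⟩ = (π s t).hom.app (op Z) ⟨d ≫ a⟩
      have e1 : q.hom.app (op Z) ⟨c ≫ a⟩ = q.hom.app (op Z) ⟨d ≫ a⟩ := by
        have e2 : ∀ (c : Z ⟶ T₁), q.hom.app (op Z) ⟨c ≫ a⟩ = F.obj.map c.op (q.hom.app (op T₁) ⟨a⟩) := by
          intro c
          rw [← app_map]
          rfl
        rw [e2, e2, ha, ← map_comp_apply, ← map_comp_apply, hcd]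
      obtain ⟨⟨r⟩, h1, h2⟩ := exists_section_of_isPullback sq Z ⟨c ≫ a⟩ ⟨d ≫ a⟩ e1
      exact (app_π_eq_iff s t h _ _).2 ⟨r, congrArg ULift.down h1, congrArg ULift.down h2⟩)
    refine ⟨x, hg₁.ext _ ?_⟩
    rw [← app_map, hx]
    exact (hφ' (T := T₁) ⟨a⟩).trans ha

/-- A sheaf with a representable flat lfp surjective map from a scheme is an algebraic space. -/
theorem isAlgSpace_of_repWith (H : H10103.{u}) {F : Sp S} {U : Over S} (q : (yon S).obj U ⟶ F)
    (h1 : RepWith @Flat q) (h2 : RepWith @LocallyOfFinitePresentation q) (h3 : RepWith @Surjective q) :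
    IsAlgSpace F := by
  obtain ⟨R, t, s, sq, ht⟩ := K597.exists_sq2 h1 q
  obtain ⟨φ, hφ, hi⟩ := exists_iso_quot q (isLocallySurjective_of_repWith q h1 h2 h3) sq
  have h := K594.EqvRel.isEqvRel_of_isPullback q s t sq
  have := H S R U s t h (h1.2 _ _ _ sq) (h2.2 _ _ _ sq) (h1.2 _ _ _ sq.flip) (h2.2 _ _ _ sq.flip)
  exact ObjectProperty.prop_of_iso _ (asIso φ) this

/-- The version for families of schemes. -/
theorem isAlgSpace_of_repWith_family (H : H10103.{u}) {F : Sp S} {ι : Type u} {U : ι → Over S}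
    (q : ∀ i, (yon S).obj (U i) ⟶ F) (h1 : ∀ i, RepWith @Flat (q i))
    (h2 : ∀ i, RepWith @LocallyOfFinitePresentation (q i)) (h3 : ∀ x : Points F, ∃ i, x ∈ Set.range (Points.map (q i))) :
    IsAlgSpace F := by
  obtain ⟨p, hp⟩ := exists_sigma_map q
  have e1 : RepWith @Flat p := repWith_sig _ p fun i => by rw [hp]; exact h1 i
  have e2 : RepWith @LocallyOfFinitePresentation p := repWith_sig _ p fun i => by rw [hp]; exact h2 i
  refine isAlgSpace_of_repWith H p e1 e2 ((repWith_surjective_iff e1.1).2 fun x => ?_)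
  obtain ⟨i, y, hy⟩ := h3 x
  exact ⟨Points.map ((yon S).map (sigι U i)) y, by rw [← Points.map_comp, hp, hy]⟩

/-- Descent along an fppf covering of an algebraic space. -/
theorem isAlgSpace_of_cover (H : H10103.{u}) {X F : Sp S} (hX : IsAlgSpace X) {ι : Type u} {Xi : ι → Sp S}
    (hXi : ∀ i, IsAlgSpace (Xi i)) (g : ∀ i, Xi i ⟶ X) (hcov : IsFppfCover Xi g) (p : F ⟶ X)
    (h : ∀ i, IsAlgSpace (pullback p (g i))) : IsAlgSpace F := by
  choose V b hb1 hb2 using fun i => (hXi i).atlas
  have hbf : ∀ i, RepWith @Flat (b i ≫ g i) := fun i =>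
    K597.repWith_of_locP K597.etLoc_flat hX.atlas (Functor.relativelyRepresentable.of_diag hX.diag _)
      (K597.locP_precomp (hb1 i) (hcov.1 i).1)
  have hbl : ∀ i, RepWith @LocallyOfFinitePresentation (b i ≫ g i) := fun i =>
    K597.repWith_of_locP K597.etLoc_lfp hX.atlas (Functor.relativelyRepresentable.of_diag hX.diag _)
      (K597.locP_precomp (hb1 i) (hcov.1 i).2)
  have sq1 := fun i => IsPullback.of_hasPullback p (g i)
  have sq2 := fun i => IsPullback.of_hasPullback (pullback.snd p (g i)) (b i)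
  have hQ : ∀ i, IsAlgSpace (pullback (pullback.snd p (g i)) (b i)) := fun i =>
    K594.Fib.isAlgSpace_of_isPullback (hXi i).diag (h i) (IsAlgSpace.yon_obj (V i)) (sq2 i)
  choose W w hw1 hw2 using fun i => (hQ i).atlas
  have sq3 : ∀ i, IsPullback (pullback.fst (pullback.snd p (g i)) (b i) ≫ pullback.fst p (g i))
      (pullback.snd (pullback.snd p (g i)) (b i)) p (b i ≫ g i) := fun i => (sq2 i).paste_horiz (sq1 i)
  refine isAlgSpace_of_repWith_family H
    (fun i => w i ≫ pullback.fst (pullback.snd p (g i)) (b i) ≫ pullback.fst p (g i)) (fun i => ?_) (fun i => ?_) ?_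
  · exact MorphismProperty.comp_mem (RepWith @Flat) _ _
      (RepWith.mono_prop (fun X Y f (hf : Etale f) => inferInstanceAs (Flat f)) (hw1 i))
      (MorphismProperty.of_isPullback (sq3 i).flip (hbf i))
  · exact MorphismProperty.comp_mem (RepWith @LocallyOfFinitePresentation) _ _
      (RepWith.mono_prop (fun X Y f (hf : Etale f) => inferInstanceAs (LocallyOfFinitePresentation f)) (hw1 i))
      (MorphismProperty.of_isPullback (sq3 i).flip (hbl i))
  · intro x
    obtain ⟨i, y, hy⟩ := hcov.2 (Points.map p x)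
    obtain ⟨v, hv⟩ := surjective_map_of_repWith_surjective (hb2 i) y
    obtain ⟨z, hz1, hz2⟩ := exists_of_isPullback (sq3 i) x v (by rw [Points.map_comp, hv, hy])
    obtain ⟨w', hw'⟩ := surjective_map_of_repWith_surjective (hw2 i) z
    exact ⟨i, w', by rw [Points.map_comp, hw', hz1]⟩

/-- Being an algebraic space is fppf local on the base (no condition on the coproduct). -/
theorem isAlgSpace_of_base (H : H10103.{u}) (F : Sp S) {ι : Type u} (Si : ι → Over S)
    (hfl : ∀ i, Flat (Si i).hom) (hfp : ∀ i, LocallyOfFinitePresentation (Si i).hom)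
    (hsurj : ∀ x : ↥S, ∃ (i : ι) (y : ↥(Si i).left), (Si i).hom.base y = x)
    (halg : ∀ i, IsAlgSpace ((yon S).obj (Si i) ⨯ F)) : IsAlgSpace F := by
  have ht : IsTerminal ((yon S).obj (Over.mk (𝟙 S))) :=
    (Over.mkIdTerminal (X := S)).isTerminalObj (yon S)
  refine isAlgSpace_of_cover H (IsAlgSpace.yon_obj (Over.mk (𝟙 S))) (fun i => IsAlgSpace.yon_obj (Si i))
    (fun i => (yon S).map (Over.mkIdTerminal.from (Si i))) ⟨fun i => ⟨?_, ?_⟩, fun x => ?_⟩ (ht.from F) fun i => ?_
  · refine K597.locP_of_repWith K597.etLoc_flat.precomp ((repWith_yon_map_iff _ _).2 ?_)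
    have := hfl i
    have e : (Over.mkIdTerminal.from (Si i)).left = (Si i).hom := by simp
    rw [e]
    exact hfl i
  · refine K597.locP_of_repWith K597.etLoc_lfp.precomp ((repWith_yon_map_iff _ _).2 ?_)
    have e : (Over.mkIdTerminal.from (Si i)).left = (Si i).hom := by simp
    rw [e]
    exact hfp i
  · obtain ⟨s, rfl⟩ := ofScheme_surjective _ x
    obtain ⟨i, y, hy⟩ := hsurj s
    refine ⟨i, Points.ofScheme _ y, ?_⟩
    rw [map_yon_map_ofScheme]
    congr 1
    have e : (Over.mkIdTerminal.from (Si i)).left = (Si i).hom := by simp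
    rw [e]
    exact hy
  · have sq : IsPullback (prod.snd : (yon S).obj (Si i) ⨯ F ⟶ F) prod.fst (ht.from F)
        ((yon S).map (Over.mkIdTerminal.from (Si i))) :=
      K609.Slice.isPullback_congr
        (IsPullback.of_isLimit_binaryFan_of_isTerminal (prodIsProd ((yon S).obj (Si i)) F) ht).flip rfl rfl
        (ht.hom_ext _ _) (ht.hom_ext _ _)
    exact ObjectProperty.prop_of_iso _ (sq.isoPullback) (halg i)

end K609.FppfDesc
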