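import Groth.Prelude.Def_AlgSp2
import Groth.Agent.AlgSp.K609.Points

/-!
# The diagonal of a sheaf and fibre products of schemes over it; locality of `RepWith P` on the base
-/

set_option autoImplicit false

universe u

open CategoryTheory CategoryTheory.Limits AlgebraicGeometry Opposite AlgSp

namespace K609.Diag

section Cat

universe v w

variable {C : Type w} [Category.{v} C] [HasBinaryProducts C]

/-- `A ×_X B` is the pullback of the diagonal of `X` along `A × B ⟶ X × X`. -/
theorem isPullback_diag {X A B P : C} {f : P ⟶ A} {g : P ⟶ B} {a : A ⟶ X} {b : B ⟶ X}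
    (h : IsPullback f g a b) : IsPullback (f ≫ a) (prod.lift f g) (Limits.diag X) (prod.map a b) where
  w := by
    apply Limits.prod.hom_ext
    · simp only [Category.assoc, prod.lift_fst, Category.comp_id, Limits.prod.map_fst, prod.lift_fst_assoc]
    · simp only [Category.assoc, prod.lift_snd, Category.comp_id, Limits.prod.map_snd, prod.lift_snd_assoc, h.w]
  isLimit' := ⟨PullbackCone.IsLimit.mk _
    (fun s => h.lift (s.snd ≫ prod.fst) (s.snd ≫ prod.snd) (by
      have h1 := congrArg (· ≫ prod.fst) s.condition
      have h2 := congrArg (· ≫ prod.snd) s.condition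
      simp only [Category.assoc, prod.lift_fst, prod.lift_snd, Category.comp_id, Limits.prod.map_fst,
        Limits.prod.map_snd] at h1 h2
      simp only [Category.assoc]
      exact h1.symm.trans h2))
    (fun s => by
      have h1 := congrArg (· ≫ prod.fst) s.condition
      simp only [Category.assoc, prod.lift_fst, Category.comp_id, Limits.prod.map_fst] at h1
      rw [IsPullback.lift_fst_assoc, h1, Category.assoc])
    (fun s => by
      apply Limits.prod.hom_ext
      · exact (Category.assoc _ _ _).trans ((congrArg _ (prod.lift_fst _ _)).trans (h.lift_fst _ _ _))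
      · exact (Category.assoc _ _ _).trans ((congrArg _ (prod.lift_snd _ _)).trans (h.lift_snd _ _ _)))
    (fun s m h1 h2 => by
      apply h.hom_ext
      · rw [IsPullback.lift_fst, ← h2, Category.assoc, prod.lift_fst]
      · rw [IsPullback.lift_snd, ← h2, Category.assoc, prod.lift_snd])⟩

end Cat

variable {S : Scheme.{u}}

/-- For schemes `U`, `V` over `X`, the fibre product `P = U ×_X V` is the pullback of the diagonal of `X` along
`U × V ⟶ X × X`. -/
theorem isPullback_diag_yon {X : Sp S} {U V P : Over S} {a : (yon S).obj U ⟶ X} {b : (yon S).obj V ⟶ X}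
    {fst : P ⟶ U} {snd : P ⟶ V} (h : IsPullback ((yon S).map fst) ((yon S).map snd) a b) :
    IsPullback ((yon S).map fst ≫ a) ((yon S).map (prod.lift fst snd)) (Limits.diag X)
      (prodComparison (yon S) U V ≫ prod.map a b) := by
  refine (isPullback_diag h).of_iso (Iso.refl _) (Iso.refl _) (asIso (prodComparison (yon S) U V)).symm (Iso.refl _)
    (by simp) ?_ (by simp) (by simp)
  simp only [Iso.refl_hom, Category.id_comp, Iso.symm_hom, asIso_inv]
  rw [IsIso.comp_inv_eq]
  apply Limits.prod.hom_ext
  · rw [prod.lift_fst, Category.assoc, prodComparison_fst, ← Functor.map_comp, prod.lift_fst]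
  · rw [prod.lift_snd, Category.assoc, prodComparison_snd, ← Functor.map_comp, prod.lift_snd]

/-- The underlying morphism of schemes of `P ⟶ U × V` is `P ⟶ U ×_S V`. -/
theorem lift_left_comp_prodLeftIsoPullback {U V P : Over S} (fst : P ⟶ U) (snd : P ⟶ V) :
    (prod.lift fst snd).left ≫ (Over.prodLeftIsoPullback U V).hom =
      pullback.lift fst.left snd.left ((Over.w fst).trans (Over.w snd).symm) := by
  apply pullback.hom_ext
  · rw [Category.assoc, Over.prodLeftIsoPullback_hom_fst, ← Over.comp_left, prod.lift_fst, pullback.lift_fst]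
  · rw [Category.assoc, Over.prodLeftIsoPullback_hom_snd, ← Over.comp_left, prod.lift_snd, pullback.lift_snd]

/-- If the diagonal of `X` is representable with property `P`, then `U ×_X V ⟶ U ×_S V` has `P`. -/
theorem prop_of_repWith_diag (P : MorphismProperty Scheme.{u}) [P.IsStableUnderBaseChange] {X : Sp S}
    (hX : RepWith P (Limits.diag X)) {U V W : Over S} {a : (yon S).obj U ⟶ X} {b : (yon S).obj V ⟶ X}
    {fst : W ⟶ U} {snd : W ⟶ V} (h : IsPullback ((yon S).map fst) ((yon S).map snd) a b) :
    P (pullback.lift fst.left snd.left ((Over.w fst).trans (Over.w snd).symm) :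
      W.left ⟶ pullback U.hom V.hom) := by
  have : P.RespectsIso := MorphismProperty.IsStableUnderBaseChange.respectsIso
  rw [← lift_left_comp_prodLeftIsoPullback, P.cancel_right_of_respectsIso]
  exact hX.2 _ _ _ (isPullback_diag_yon h)

/-- A pullback `E` of the diagonal of `X` along `(g₁, g₂) : h_T ⟶ X × X` is the pullback of the diagonal of `T` along
`T ×_X T ⟶ T × T`. -/
theorem exists_isPullback_of_diag {X : Sp S} {T W E : Over S} (g : (yon S).obj T ⟶ X ⨯ X)
    {p₁ p₂ : W ⟶ T} (hW : IsPullback ((yon S).map p₁) ((yon S).map p₂) (g ≫ prod.fst) (g ≫ prod.snd))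
    {fst : (yon S).obj E ⟶ X} {snd : E ⟶ T} (sq : IsPullback fst ((yon S).map snd) (Limits.diag X) g) :
    ∃ e : E ⟶ W, IsPullback e snd (prod.lift p₁ p₂) (Limits.diag T) := by
  have hW' := isPullback_diag_yon hW
  have hg : g = (yon S).map (Limits.diag T) ≫ prodComparison (yon S) T T ≫
      prod.map (g ≫ prod.fst) (g ≫ prod.snd) := by
    have h1 : (yon S).map (𝟙 T) = 𝟙 ((yon S).obj T) := (yon S).map_id T
    apply Limits.prod.hom_ext
    · rw [Category.assoc, Category.assoc, Limits.prod.map_fst, prodComparison_fst_assoc,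
        ← Functor.map_comp_assoc, prod.lift_fst, h1, Category.id_comp]
    · rw [Category.assoc, Category.assoc, Limits.prod.map_snd, prodComparison_snd_assoc,
        ← Functor.map_comp_assoc, prod.lift_snd, h1, Category.id_comp]
  have sq' : IsPullback fst ((yon S).map snd) (Limits.diag X) ((yon S).map (Limits.diag T) ≫
      prodComparison (yon S) T T ≫ prod.map (g ≫ prod.fst) (g ≫ prod.snd)) := by
    rw [← hg]; exact sq
  let l : (yon S).obj E ⟶ (yon S).obj W := hW'.lift fst ((yon S).map snd ≫ (yon S).map (Limits.diag T))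
    (by rw [sq'.w, Category.assoc])
  have hl1 : l ≫ ((yon S).map p₁ ≫ g ≫ prod.fst) = fst := hW'.lift_fst _ _ _
  have hl2 : l ≫ (yon S).map (prod.lift p₁ p₂) = (yon S).map snd ≫ (yon S).map (Limits.diag T) :=
    hW'.lift_snd _ _ _
  have hsq : IsPullback l ((yon S).map snd) ((yon S).map (prod.lift p₁ p₂)) ((yon S).map (Limits.diag T)) := by
    refine IsPullback.of_right (h₁₂ := (yon S).map p₁ ≫ g ≫ prod.fst) (h₂₂ := prodComparison (yon S) T T ≫
      prod.map (g ≫ prod.fst) (g ≫ prod.snd)) (v₁₃ := Limits.diag X) ?_ hl2 hW'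
    rw [hl1]
    exact sq'
  obtain ⟨e, he⟩ := (yon S).map_surjective l
  rw [← he] at hsq
  exact ⟨e, IsPullback.of_map (yon S) ((yon S).map_injective
    (by rw [Functor.map_comp, Functor.map_comp]; exact hsq.w)) hsq⟩

/-- The scheme-level form: `E ⟶ T` is the pullback of the diagonal of `T` over `S` along `W = T ×_X T ⟶ T ×_S T`. -/
theorem exists_isPullback_left_of_diag {X : Sp S} {T W E : Over S} (g : (yon S).obj T ⟶ X ⨯ X)
    {p₁ p₂ : W ⟶ T} (hW : IsPullback ((yon S).map p₁) ((yon S).map p₂) (g ≫ prod.fst) (g ≫ prod.snd))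
    {fst : (yon S).obj E ⟶ X} {snd : E ⟶ T} (sq : IsPullback fst ((yon S).map snd) (Limits.diag X) g) :
    ∃ e : E ⟶ W, IsPullback e.left snd.left
      (pullback.lift p₁.left p₂.left ((Over.w p₁).trans (Over.w p₂).symm) : W.left ⟶ pullback T.hom T.hom)
      (pullback.diagonal T.hom) := by
  obtain ⟨e, he⟩ := exists_isPullback_of_diag g hW sq
  refine ⟨e, (he.map (Over.forget S)).of_iso (Iso.refl _) (Iso.refl _) (Iso.refl _)
    (Over.prodLeftIsoPullback T T) (by simp) (by simp) ?_ ?_⟩
  · exact (lift_left_comp_prodLeftIsoPullback p₁ p₂).trans (Category.id_comp _).symm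
  · exact (diag_left_comp_prodLeftIsoPullback T).trans (Category.id_comp _).symm

end K609.Diag
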