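import Mathlib.FieldTheory.IsAlgClosed.Classification
import Mathlib.FieldTheory.IsAlgClosed.AlgebraicClosure
import Mathlib.SetTheory.Cardinal.Arithmetic

/-!
# Automorphisms of large algebraically closed fields

* `exists_ringEquiv`: two embeddings of a field `k` into an algebraically closed field `Ω` with `#Ω > max #k ℵ₀`
  differ by an automorphism of `Ω`.
* `exists_large_algClosed`: every field embeds into an algebraically closed field of larger cardinality.
-/

set_option autoImplicit false

universe u

open Cardinal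

namespace K609.AlgClosedAut

theorem exists_algEquiv {k K L : Type u} [Field k] [Field K] [Field L] [Algebra k K] [Algebra k L]
    [IsAlgClosed K] [IsAlgClosed L] {ι κ : Type u} (v : ι → K) (w : κ → L) (e : ι ≃ κ)
    (hv : IsTranscendenceBasis k v) (hw : IsTranscendenceBasis k w) : Nonempty (K ≃ₐ[k] L) := by
  let := IsAlgClosed.isAlgClosure_of_transcendence_basis v hv
  let := IsAlgClosed.isAlgClosure_of_transcendence_basis w hw
  let e' : Algebra.adjoin k (Set.range v) ≃ₐ[k] Algebra.adjoin k (Set.range w) :=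
    hv.1.aevalEquiv.symm.trans ((MvPolynomial.renameEquiv k e).trans hw.1.aevalEquiv)
  refine ⟨AlgEquiv.ofRingEquiv (f := IsAlgClosure.equivOfEquiv K L e'.toRingEquiv) fun r => ?_⟩
  rw [IsScalarTower.algebraMap_apply k (Algebra.adjoin k (Set.range v)) K,
    IsAlgClosure.equivOfEquiv_algebraMap]
  change algebraMap _ L (e' (algebraMap k _ r)) = _
  rw [AlgEquiv.commutes, ← IsScalarTower.algebraMap_apply]

theorem mk_eq_of_transcendenceBasis {k K ι : Type u} [Field k] [Field K] [Algebra k K] [IsAlgClosed K]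
    (h : max #k ℵ₀ < #K) (v : ι → K) (hv : IsTranscendenceBasis k v) : #ι = #K := by
  apply le_antisymm
  · exact Cardinal.mk_le_of_injective hv.1.injective
  · have h1 := IsAlgClosed.cardinal_le_max_transcendence_basis' v hv
    by_contra hlt
    rw [not_le] at hlt
    have : max (max #k #ι) ℵ₀ < #K := by
      rw [max_lt_iff, max_lt_iff]
      exact ⟨⟨(le_max_left _ _).trans_lt h, hlt⟩, (le_max_right _ _).trans_lt h⟩
    exact absurd h1 (not_le.2 this)

/-- Two embeddings of `k` into a large algebraically closed field differ by an automorphism. -/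
theorem exists_ringEquiv {k Ω : Type u} [Field k] [Field Ω] [IsAlgClosed Ω] (h : max #k ℵ₀ < #Ω)
    (f g : k →+* Ω) : ∃ e : Ω ≃+* Ω, e.toRingHom.comp f = g := by
  have key : ∀ f : k →+* Ω, ∃ (ι : Type u) (v : ι → Ω), (let := f.toAlgebra; IsTranscendenceBasis k v) ∧
      #ι = #Ω := by
    intro f
    let := f.toAlgebra
    obtain ⟨s, hs⟩ := exists_isTranscendenceBasis k Ω
    exact ⟨s, _, hs, mk_eq_of_transcendenceBasis h _ hs⟩
  obtain ⟨ι, v, hv, hι⟩ := key f
  obtain ⟨κ, w, hw, hκ⟩ := key g
  obtain ⟨e⟩ := Cardinal.eq.1 (hι.trans hκ.symm)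
  obtain ⟨φ⟩ := @exists_algEquiv k Ω Ω _ _ _ f.toAlgebra g.toAlgebra _ _ ι κ v w e hv hw
  refine ⟨@AlgEquiv.toRingEquiv k Ω Ω _ _ _ f.toAlgebra g.toAlgebra φ, ?_⟩
  ext x
  exact @AlgEquiv.commutes k Ω Ω _ _ _ f.toAlgebra g.toAlgebra φ x

/-- Every field embeds into an algebraically closed field of larger (uncountable) cardinality. -/
theorem exists_large_algClosed (K : Type u) [Field K] :
    ∃ (Ω : Type u) (_ : Field Ω) (_ : Algebra K Ω), IsAlgClosed Ω ∧ max #K ℵ₀ < #Ω := by
  let ι : Type u := Set (K ⊕ ULift.{u} ℕ)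
  let F := FractionRing (MvPolynomial ι K)
  refine ⟨AlgebraicClosure F, inferInstance, inferInstance, inferInstance, ?_⟩
  have h1 : #ι ≤ #(AlgebraicClosure F) := by
    refine Cardinal.mk_le_of_injective
      (f := fun i => algebraMap F (AlgebraicClosure F) (algebraMap (MvPolynomial ι K) F (MvPolynomial.X i))) ?_
    intro i j hij
    have := (algebraMap F (AlgebraicClosure F)).injective hij
    have := IsFractionRing.injective (MvPolynomial ι K) F this
    exact MvPolynomial.X_injective this
  refine lt_of_lt_of_le ?_ h1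
  have h2 : #(K ⊕ ULift.{u} ℕ) < #ι := by
    rw [Cardinal.mk_set]
    exact Cardinal.cantor _
  refine lt_of_le_of_lt ?_ h2
  refine max_le ?_ ?_
  · exact Cardinal.mk_le_of_injective Sum.inl_injective
  · have : #(ULift.{u} ℕ) = ℵ₀ := by simp
    rw [← this]
    exact Cardinal.mk_le_of_injective Sum.inr_injective

end K609.AlgClosedAut
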