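import Groth.Agent.AlgSp.K609.Points
import Groth.Agent.AlgSp.K609.AlgClosedAut
import Groth.Prelude.Def_AlgSpGpd

/-!
# Points of a groupoid over a field become "translations" over a large algebraically closed field
-/

set_option autoImplicit false

universe u

open CategoryTheory CategoryTheory.Limits AlgebraicGeometry Opposite AlgSp AlgSp.GroupoidSp

namespace K609.BigField

variable {S : Scheme.{u}} {B : AlgSp.Sp S}

/-- Lifting into the arrows of a restriction. -/
theorem exists_lift {G G' : GroupoidSp B} {φ : Hom G' G} (hφ : φ.IsRestriction) {T : Sp S}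
    (ρ : T ⟶ G.R) (α β : T ⟶ G'.U) (hα : ρ ≫ G.t = α ≫ φ.fU) (hβ : ρ ≫ G.s = β ≫ φ.fU) :
    ∃ r : T ⟶ G'.R, r ≫ φ.fR = ρ ∧ r ≫ G'.t = α ∧ r ≫ G'.s = β := by
  have h1 : α ≫ G'.pU = β ≫ G'.pU := by
    rw [← φ.fU_over, ← Category.assoc, ← Category.assoc, ← hα, ← hβ, Category.assoc, Category.assoc,
      G.t_over, G.s_over]
  have h2 : ρ ≫ G.j = pullback.lift α β h1 ≫ φ.prodMap := by
    apply pullback.hom_ext
    · rw [Category.assoc, j_fst, hα, Hom.prodMap, Category.assoc]
      simp only [pullback.map, pullback.lift_fst, pullback.lift_fst_assoc]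
    · rw [Category.assoc, j_snd, hβ, Hom.prodMap, Category.assoc]
      simp only [pullback.map, pullback.lift_snd, pullback.lift_snd_assoc]
  refine ⟨IsPullback.lift hφ ρ (pullback.lift α β h1) h2, IsPullback.lift_fst _ _ _ _, ?_, ?_⟩
  · have := congrArg (· ≫ pullback.fst G'.pU G'.pU) (IsPullback.lift_snd hφ ρ (pullback.lift α β h1) h2)
    simpa only [Category.assoc, j_fst, pullback.lift_fst] using this
  · have := congrArg (· ≫ pullback.snd G'.pU G'.pU) (IsPullback.lift_snd hφ ρ (pullback.lift α β h1) h2)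
    simpa only [Category.assoc, j_snd, pullback.lift_snd] using this

theorem exists_algClosed_restrict_point_over (G : GroupoidSp B) (k : Type u) [Field k]
    (σ : Spec (CommRingCat.of k) ⟶ S) (eU : G.U ≅ (yon S).obj (Over.mk σ)) (r : Points G.R) :
    ∃ (k' : Type u) (_ : Field k') (_ : Algebra k k'), IsAlgClosed k' ∧
      ∀ (G' : GroupoidSp B) (φ : Hom G' G), φ.IsRestriction →
        ∀ (eU' : G'.U ≅ (yon S).obj (Over.mk (Spec.map (CommRingCat.ofHom (algebraMap k k')) ≫ σ))),
          φ.fU = eU'.hom ≫ (yon S).map (Over.homMk (Spec.map (CommRingCat.ofHom (algebraMap k k'))) rfl :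
            Over.mk (Spec.map (CommRingCat.ofHom (algebraMap k k')) ≫ σ) ⟶ Over.mk σ) ≫ eU.inv →
          ∃ r' : G'.U ⟶ G'.R, (∀ x : Points G'.U, Points.map (r' ≫ φ.fR) x = r) ∧
            IsIso (r' ≫ G'.s) ∧ IsIso (r' ≫ G'.t) := by
  obtain ⟨K, _, str, g, hg⟩ := K609.Points.exists_field_ofPt r
  -- the two maps `Spec K ⟶ Spec k`
  obtain ⟨a, ha⟩ := (yon S).map_surjective (g ≫ G.s ≫ eU.hom)
  obtain ⟨b, hb⟩ := (yon S).map_surjective (g ≫ G.t ≫ eU.hom)
  let fa : k →+* K := (Spec.preimage a.left).hom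
  let fb : k →+* K := (Spec.preimage b.left).hom
  have hfa : Spec.map (CommRingCat.ofHom fa) = a.left := Spec.map_preimage a.left
  have hfb : Spec.map (CommRingCat.ofHom fb) = b.left := Spec.map_preimage b.left
  have hwa : a.left ≫ σ = str := Over.w a
  have hwb : b.left ≫ σ = str := Over.w b
  obtain ⟨Ω, _, _, hΩ, hcard⟩ := AlgClosedAut.exists_large_algClosed K
  let ja : k →+* Ω := (algebraMap K Ω).comp fa
  let jb : k →+* Ω := (algebraMap K Ω).comp fb
  have hcard' : max (Cardinal.mk k) Cardinal.aleph0 < Cardinal.mk Ω :=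
    lt_of_le_of_lt (max_le_max (Cardinal.mk_le_of_injective fa.injective) le_rfl) hcard
  obtain ⟨e, he⟩ := AlgClosedAut.exists_ringEquiv hcard' ja jb
  let algk : Algebra k Ω := ja.toAlgebra
  refine ⟨Ω, inferInstance, algk, hΩ, fun G' φ hφ eU' hφU => ?_⟩
  -- `T = Spec Ω`
  let q : Spec (CommRingCat.of Ω) ⟶ Spec (CommRingCat.of K) := Spec.map (CommRingCat.ofHom (algebraMap K Ω))
  have hqa : q ≫ a.left = Spec.map (CommRingCat.ofHom (algebraMap k Ω)) := by
    rw [← hfa, ← Spec.map_comp]; rfl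
  have hqb : q ≫ b.left = Spec.map (CommRingCat.ofHom e.toRingHom) ≫ Spec.map (CommRingCat.ofHom (algebraMap k Ω)) := by
    rw [← hfb, ← Spec.map_comp, ← Spec.map_comp, ← CommRingCat.ofHom_comp, ← CommRingCat.ofHom_comp]
    congr 2
    exact he.symm
  let T : Over S := Over.mk (Spec.map (CommRingCat.ofHom (algebraMap k Ω)) ≫ σ)
  let q' : T ⟶ Over.mk str := Over.homMk q (by
    change q ≫ str = Spec.map (CommRingCat.ofHom (algebraMap k Ω)) ≫ σ
    rw [← hwa, ← Category.assoc, hqa])
  let i' : T ⟶ Over.mk σ := Over.homMk (Spec.map (CommRingCat.ofHom (algebraMap k Ω))) rfl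
  have hew : Spec.map (CommRingCat.ofHom e.toRingHom) ≫ T.hom = T.hom := by
    change Spec.map (CommRingCat.ofHom e.toRingHom) ≫ Spec.map (CommRingCat.ofHom (algebraMap k Ω)) ≫ σ =
      Spec.map (CommRingCat.ofHom (algebraMap k Ω)) ≫ σ
    rw [← Category.assoc, ← hqb, Category.assoc, hwb, ← hwa, ← Category.assoc, hqa]
  let α : T ⟶ T := Over.homMk (Spec.map (CommRingCat.ofHom e.toRingHom)) hew
  have hαi : IsIso α := by
    have : IsIso ((Over.forget S).map α) := by
      change IsIso (Spec.map (CommRingCat.ofHom e.toRingHom))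
      have : IsIso (CommRingCat.ofHom e.toRingHom) := e.toCommRingCatIso.isIso_hom
      infer_instance
    exact isIso_of_reflects_iso α (Over.forget S)
  have h1 : q' ≫ a = i' := Over.OverMorphism.ext hqa
  have h2 : q' ≫ b = α ≫ i' := Over.OverMorphism.ext hqb
  -- the arrow
  obtain ⟨r', hr1, hr2, hr3⟩ := exists_lift hφ (eU'.hom ≫ (yon S).map q' ≫ g)
    (eU'.hom ≫ (yon S).map α ≫ eU'.inv) (𝟙 _) (by
      rw [hφU]
      have : g ≫ G.t = (yon S).map b ≫ eU.inv := by rw [hb]; simp
      rw [Category.assoc, Category.assoc, this, ← Functor.map_comp_assoc, h2, Functor.map_comp]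
      simp [i', T]) (by
      rw [hφU]
      have : g ≫ G.s = (yon S).map a ≫ eU.inv := by rw [ha]; simp
      rw [Category.assoc, Category.assoc, this, ← Functor.map_comp_assoc, h1]
      simp [i', T])
  refine ⟨r', fun x => ?_, ?_, ?_⟩
  · rw [hr1, Points.map_comp, Points.map_comp]
    obtain ⟨t, ht⟩ := K609.Points.ofScheme_surjective T (Points.map eU'.hom x)
    rw [← ht, K609.Points.map_yon_map_ofScheme, ← Points.ofPt_eq_map_ofScheme]
    exact hg _
  · rw [hr3]; infer_instance
  · rw [hr2]; infer_instance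

end K609.BigField
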