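import Groth.Agent.AlgSp.K609.Points
import Mathlib.AlgebraicGeometry.Morphisms.QuasiFinite
import Mathlib.RingTheory.Unramified.LocalStructure

/-!
# Finiteness of the fibres of charts
-/

set_option autoImplicit false

universe u

open CategoryTheory CategoryTheory.Limits AlgebraicGeometry Opposite AlgSp

namespace K609.FinFib

variable {S : Scheme.{u}}

/-- Étale morphisms are locally quasi-finite. -/
theorem locallyQuasiFinite_of_etale {X Y : Scheme.{u}} (f : X ⟶ Y) [Etale f] : LocallyQuasiFinite f := by
  rw [HasRingHomProperty.iff_appLE (P := @LocallyQuasiFinite)]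
  intro U V e
  have h := HasRingHomProperty.appLE (P := @Etale) f inferInstance U V e
  algebraize [(Scheme.Hom.appLE f U V e).hom]
  have : Algebra.Etale Γ(Y, U) Γ(X, V) := h
  change Algebra.QuasiFinite _ _
  infer_instance

/-- An etale quasi-compact morphism of schemes has finite fibres. -/
theorem finite_preimage_singleton {X Y : Scheme.{u}} (f : X ⟶ Y) [Etale f] [QuasiCompact f] (y : Y) :
    (f ⁻¹' {y}).Finite := by
  have := locallyQuasiFinite_of_etale f
  exact f.finite_preimage_singleton y

/-- The fibres of `|U| → |X|` and `|R| → |X|` are finite when the two projections `R ⟶ U` are quasi-compact. -/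
theorem finite_fibres {X : Sp S} {R U : Over S} {a : (yon S).obj U ⟶ X} (ha : RepWith @Etale a) {s t : R ⟶ U}
    (hR : IsPullback ((yon S).map t) ((yon S).map s) a a) [QuasiCompact s.left] [QuasiCompact t.left]
    (x : Points X) :
    (Points.ofPt a ⁻¹' {x}).Finite ∧ (Points.ofPt ((yon S).map t ≫ a) ⁻¹' {x}).Finite := by
  have hs : Etale s.left := ha.2 a ((yon S).map t) s hR
  have ht : Etale t.left := ha.2 a ((yon S).map s) t hR.flip
  have h1 : (Points.ofPt a ⁻¹' {x}).Finite := by
    rcases (Points.ofPt a ⁻¹' {x}).eq_empty_or_nonempty with h | ⟨u₀, hu₀⟩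
    · rw [h]; exact Set.finite_empty
    · refine ((finite_preimage_singleton s.left u₀).image t.left).subset fun u hu => ?_
      obtain ⟨r, hr1, hr2⟩ := (K609.Points.ofPt_eq_ofPt_iff hR u u₀).1
        ((show Points.ofPt a u = x from hu).trans (show Points.ofPt a u₀ = x from hu₀).symm)
      exact ⟨r, hr2, hr1⟩
  refine ⟨h1, ?_⟩
  have e : Points.ofPt ((yon S).map t ≫ a) ⁻¹' {x} = t.left ⁻¹' (Points.ofPt a ⁻¹' {x}) := by
    ext r
    simp only [Set.mem_preimage, K609.Points.ofPt_yon_map_comp]
  rw [e]
  have := locallyQuasiFinite_of_etale t.left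
  exact t.left.finite_preimage h1

end K609.FinFib
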