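import Groth.Agent.AlgSp.K608.Gpd

/-!
# Shear and translation isomorphisms of groupoids in sheaves
-/

set_option autoImplicit false

universe u

open CategoryTheory CategoryTheory.Limits AlgebraicGeometry Opposite

namespace K609.Gpd

open K608.Gpd

variable {S : Scheme.{u}} {B : AlgSp.Sp S} (G : AlgSp.GroupoidSp B)

/-- `c` in terms of the two projections. -/
theorem c_eq : G.c = mul G (pullback.fst G.s G.t) (pullback.snd G.s G.t) pullback.condition := by
  unfold mul
  have : pullback.lift (pullback.fst G.s G.t) (pullback.snd G.s G.t) pullback.condition = 𝟙 _ := by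
    apply pullback.hom_ext
    · rw [pullback.lift_fst, Category.id_comp]
    · rw [pullback.lift_snd, Category.id_comp]
  rw [this, Category.id_comp]

theorem lift_c {T : AlgSp.Sp S} (α β : T ⟶ G.R) (h : α ≫ G.s = β ≫ G.t) :
    pullback.lift α β h ≫ G.c = mul G α β h := rfl

theorem comp_c {T : AlgSp.Sp S} (f : T ⟶ pullback G.s G.t) :
    f ≫ G.c = mul G (f ≫ pullback.fst G.s G.t) (f ≫ pullback.snd G.s G.t)
      (by rw [Category.assoc, Category.assoc, pullback.condition]) := by
  conv_lhs => rw [c_eq, comp_mul]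

theorem c_s : G.c ≫ G.s = pullback.snd G.s G.t ≫ G.s := by rw [c_eq, mul_s]

theorem c_t : G.c ≫ G.t = pullback.fst G.s G.t ≫ G.t := by rw [c_eq, mul_t]

/-- The square `c, pr₁, s, s` is cartesian. -/
theorem isPullback_c_snd : IsPullback G.c (pullback.snd G.s G.t) G.s G.s where
  w := c_s G
  isLimit' := ⟨PullbackCone.IsLimit.mk _
    (fun σ => pullback.lift (mul G σ.fst (inv G σ.snd) (σ.condition.trans (inv_t G _).symm)) σ.snd
      (by rw [mul_s, inv_s]))
    (fun σ => by
      rw [lift_c]
      exact inv_mul_cancel_right G _ _ (σ.condition.trans (inv_t G _).symm) _)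
    (fun σ => pullback.lift_snd _ _ _)
    (fun σ m h1 h2 => by
      apply pullback.hom_ext
      · rw [pullback.lift_fst]
        have e1 : m ≫ pullback.fst G.s G.t ≫ G.s = m ≫ pullback.snd G.s G.t ≫ G.t := by
          rw [pullback.condition]
        have h3 : mul G (m ≫ pullback.fst G.s G.t) (m ≫ pullback.snd G.s G.t)
            (by rw [Category.assoc, Category.assoc, e1]) = σ.fst := by
          rw [← comp_c, h1]
        have h4 : mul G (mul G (m ≫ pullback.fst G.s G.t) (m ≫ pullback.snd G.s G.t)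
            (by rw [Category.assoc, Category.assoc, e1])) (inv G (m ≫ pullback.snd G.s G.t))
            (by rw [mul_s, inv_t]) = m ≫ pullback.fst G.s G.t := mul_inv_cancel_right G _ _ _ _
        rw [← h4]
        exact mul_congr G _ h3 (by rw [h2])
      · rw [pullback.lift_snd, h2])⟩

/-- The square `c, pr₀, t, t` is cartesian. -/
theorem isPullback_c_fst : IsPullback G.c (pullback.fst G.s G.t) G.t G.t where
  w := c_t G
  isLimit' := ⟨PullbackCone.IsLimit.mk _
    (fun σ => pullback.lift σ.snd (mul G (inv G σ.snd) σ.fst ((inv_s G _).trans σ.condition.symm))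
      (by rw [mul_t, inv_t]))
    (fun σ => by
      rw [lift_c]
      exact mul_inv_cancel_left G _ _ ((inv_s G _).trans σ.condition.symm) _)
    (fun σ => pullback.lift_fst _ _ _)
    (fun σ m h1 h2 => by
      apply pullback.hom_ext
      · rw [pullback.lift_fst, h2]
      · rw [pullback.lift_snd]
        have e1 : m ≫ pullback.fst G.s G.t ≫ G.s = m ≫ pullback.snd G.s G.t ≫ G.t := by
          rw [pullback.condition]
        have h3 : mul G (m ≫ pullback.fst G.s G.t) (m ≫ pullback.snd G.s G.t)
            (by rw [Category.assoc, Category.assoc, e1]) = σ.fst := by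
          rw [← comp_c, h1]
        have h4 : mul G (inv G (m ≫ pullback.fst G.s G.t)) (mul G (m ≫ pullback.fst G.s G.t)
            (m ≫ pullback.snd G.s G.t) (by rw [Category.assoc, Category.assoc, e1]))
            (by rw [mul_t, inv_s]) = m ≫ pullback.snd G.s G.t := inv_mul_cancel_left G _ _ _ _
        rw [← h4]
        exact mul_congr G _ (by rw [h2]) h3)⟩

/-- The shear map `(α, β) ↦ (α, i(α) ∘ β)` from `R ×_{t,U,t} R` to `R ×_{s,U,t} R` is an isomorphism whose composite
with `c` is the second projection. -/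
theorem shear (φ : pullback G.t G.t ⟶ pullback G.s G.t)
    (h1 : φ ≫ pullback.fst G.s G.t = pullback.fst G.t G.t)
    (h2 : φ ≫ pullback.snd G.s G.t = mul G (inv G (pullback.fst G.t G.t)) (pullback.snd G.t G.t)
      ((inv_s G _).trans pullback.condition)) :
    IsIso φ ∧ φ ≫ G.c = pullback.snd G.t G.t := by
  have h3 : φ ≫ G.c = pullback.snd G.t G.t := by
    rw [comp_c, mul_congr G _ h1 h2]
    exact mul_inv_cancel_left G _ _ _ _
  refine ⟨⟨pullback.lift (pullback.fst G.s G.t) G.c (c_t G).symm, ?_, ?_⟩, h3⟩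
  · apply pullback.hom_ext
    · rw [Category.assoc, pullback.lift_fst, h1, Category.id_comp]
    · rw [Category.assoc, pullback.lift_snd, h3, Category.id_comp]
  · apply pullback.hom_ext
    · rw [Category.assoc, h1, pullback.lift_fst, Category.id_comp]
    · rw [Category.assoc, h2, Category.id_comp, comp_mul]
      rw [mul_congr G (α' := inv G (pullback.fst G.s G.t))
        (β' := mul G (pullback.fst G.s G.t) (pullback.snd G.s G.t) pullback.condition) _
        (by rw [comp_inv, pullback.lift_fst]) (by rw [pullback.lift_snd]; exact c_eq G)]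
      exact inv_mul_cancel_left G _ _ _ _

section Translation

variable (a : G.U ⟶ G.R) (ha : a ≫ G.s = 𝟙 G.U)

include ha in
theorem trans_cond : (G.t ≫ a) ≫ G.s = 𝟙 G.R ≫ G.t := by
  rw [Category.assoc, ha, Category.comp_id, Category.id_comp]

/-- The translation `f ↦ a(t f) ∘ f`. -/
noncomputable def trans : G.R ⟶ G.R := mul G (G.t ≫ a) (𝟙 G.R) (trans_cond G a ha)

theorem comp_trans {T : AlgSp.Sp S} (f : T ⟶ G.R) :
    f ≫ trans G a ha = mul G (f ≫ G.t ≫ a) f (by rw [Category.assoc, Category.assoc, ha, Category.comp_id]) := by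
  rw [trans, comp_mul]
  exact mul_congr G _ rfl (Category.comp_id _)

theorem trans_t : trans G a ha ≫ G.t = G.t ≫ a ≫ G.t := by rw [trans, mul_t, Category.assoc]

theorem trans_s : trans G a ha ≫ G.s = G.s := by rw [trans, mul_s, Category.id_comp]

theorem isIso_trans [IsIso (a ≫ G.t)] : IsIso (trans G a ha) := by
  let θ := CategoryTheory.inv (a ≫ G.t)
  have hθ1 : θ ≫ a ≫ G.t = 𝟙 _ := IsIso.inv_hom_id _
  have hθ2 : a ≫ G.t ≫ θ = 𝟙 _ := by rw [← Category.assoc]; exact IsIso.hom_inv_id _
  have hc : inv G (G.t ≫ θ ≫ a) ≫ G.s = 𝟙 G.R ≫ G.t := by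
    rw [inv_s, Category.assoc, Category.assoc, hθ1, Category.comp_id, Category.id_comp]
  have hb : ∀ {T : AlgSp.Sp S} (f : T ⟶ G.R), f ≫ mul G (inv G (G.t ≫ θ ≫ a)) (𝟙 G.R) hc =
      mul G (inv G (f ≫ G.t ≫ θ ≫ a)) f (by
        rw [inv_s, Category.assoc, Category.assoc, Category.assoc, hθ1, Category.comp_id]) := by
    intro T f
    rw [comp_mul]
    exact mul_congr G _ (comp_inv G _ _) (Category.comp_id _)
  refine ⟨mul G (inv G (G.t ≫ θ ≫ a)) (𝟙 G.R) hc, ?_, ?_⟩
  · rw [hb]
    have e1 : trans G a ha ≫ G.t ≫ θ ≫ a = G.t ≫ a := by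
      rw [← Category.assoc, trans_t, Category.assoc, Category.assoc, ← Category.assoc a G.t, 
        ← Category.assoc (a ≫ G.t) θ, Category.assoc a G.t θ, hθ2, Category.id_comp]
    refine (mul_congr G (α := inv G (trans G a ha ≫ G.t ≫ θ ≫ a)) (α' := inv G (G.t ≫ a))
      (β := trans G a ha) (β' := mul G (G.t ≫ a) (𝟙 G.R) (trans_cond G a ha)) _ (by rw [e1]) rfl).trans ?_
    exact inv_mul_cancel_left G _ _ _ _
  · rw [comp_trans]
    have e1 : mul G (inv G (G.t ≫ θ ≫ a)) (𝟙 G.R) hc ≫ G.t ≫ a = G.t ≫ θ ≫ a := by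
      rw [← Category.assoc, mul_t, inv_t, Category.assoc, Category.assoc, Category.assoc,
        ← Category.assoc a G.s a, ha, Category.id_comp]
    refine (mul_congr G (α' := G.t ≫ θ ≫ a) (β' := mul G (inv G (G.t ≫ θ ≫ a)) (𝟙 G.R) hc) _ e1 rfl).trans ?_
    exact mul_inv_cancel_left G _ _ _ _

theorem e_trans : G.e ≫ trans G a ha = a := by
  rw [comp_trans]
  have e1 : G.e ≫ G.t ≫ a = a := by rw [← Category.assoc, G.e_t, Category.id_comp]
  have e2 : G.e = one G (𝟙 G.U) := by rw [one, Category.id_comp]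
  rw [mul_congr G (α' := a) (β' := one G (𝟙 G.U)) _ e1 e2]
  exact mul_one G _ _ _

end Translation

end K609.Gpd
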