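import Groth.Agent.AlgSp.K609.GrpLoc
import Groth.Agent.AlgSp.K609.Gpd
import Groth.Agent.AlgSp.K616.DimInv
import Groth.Agent.FlatA.FibreDim
import Groth.Agent.Flat2B.PointBC
import Groth.Agent.S5792

/-!
# Local dimension of groupoids and groups over a field

* `transR`: right translation `R ×_{s,U,t ρ} T ≅ R ×_{s,U,s ρ} T` by a `T`-point `ρ` of `R`.
* `hasAtMor_s_iff`: a pointwise property of `s`, invariant under base change, holds at `r` iff it holds at the
  identity of the target of `r`.
* `hasAt_localDim_iff`, `dim_eq_of_forall`, `dim_eq_iSup`.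
* `hasAt_localDim_eq_dim`.
-/

set_option autoImplicit false
set_option backward.isDefEq.respectTransparency.types false

universe u

open CategoryTheory CategoryTheory.Limits AlgebraicGeometry Opposite AlgSp MonoidalCategory
  CartesianMonoidalCategory MonObj

namespace K609.GpdDim

open K609.GrpLoc K616.Inv K608.Gpd

variable {S : Scheme.{u}}

/-- Pointwise properties of morphisms locally of finite type which are étale local and insensitive to base change. -/
structure BCInv (Q : ∀ (U V : Scheme.{u}), (U ⟶ V) → ↥U → Prop) : Prop where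
  et : EtInvOn @LocallyOfFiniteType Q
  bc : ∀ ⦃U V U' V' : Scheme.{u}⦄ ⦃h : U ⟶ V⦄ ⦃h' : U' ⟶ V'⦄ ⦃p : U' ⟶ U⦄ ⦃q : V' ⟶ V⦄, IsPullback p h' h q →
    LocallyOfFiniteType h → ∀ u : ↥U', Q U V h (p u) ↔ Q U' V' h' u

theorem bcInv_fibreDimAt (d : WithBot ℕ∞) : BCInv (fun _ _ h u => FlatMor.fibreDimAt h u = d) where
  et := K616.DimInv.etInvOn_fibreDimAt (fun e => e = d)
  bc := by
    intro U V U' V' h h' p q sq hh u
    rw [Groth.Agent.Ega4fib.H172.FibDimBC.fibreDimAt_of_isPullback sq u]

variable {Q : ∀ (U V : Scheme.{u}), (U ⟶ V) → ↥U → Prop}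

theorem hasAtMor_bc (hQ : BCInv Q) {X Y Y' X' : Sp S} (hX : IsAlgSpace X) (hY : IsAlgSpace Y)
    (hY' : IsAlgSpace Y') (hX' : IsAlgSpace X') {f : X ⟶ Y} {g : Y' ⟶ Y} {g' : X' ⟶ X} {f' : X' ⟶ Y'}
    (sq : IsPullback g' f' f g) (hf : LocP @LocallyOfFiniteType f) (x' : Points X') :
    HasAtMor Q f (Points.map g' x') ↔ HasAtMor Q f' x' := by
  have hf' : LocP @LocallyOfFiniteType f' := K597.locP_bc K597.etLoc_lft sq hX.hasAtlas hY.hasAtlas hY'.hasAtlas hf
  exact K616.Near.hasAtMor_baseChange (P := @LocallyOfFiniteType) hQ.et (fun _ _ _ _ _ _ _ _ sq' hh u => hQ.bc sq' hh u)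
    hX hY hY' hX' sq hf hf' x'

theorem hasAtMor_iso_iff {F F' G : Sp S} (e : F ≅ F') {f : F ⟶ G}
    {f' : F' ⟶ G} (w : e.hom ≫ f' = f) (x : Points F) :
    HasAtMor Q f' (Points.map e.hom x) ↔ HasAtMor Q f x := by
  constructor
  · intro H
    have := hasAtMor_iso e.symm (f := f') (f' := f) (by rw [← w]; exact e.inv_hom_id_assoc f') H
    rwa [← Points.map_comp, Iso.symm_hom, e.hom_inv_id, Points.map_id] at this
  · exact hasAtMor_iso e w

section Translation

variable {B : Sp S} (G : GroupoidSp B) {T : Sp S} (ρ : T ⟶ G.R)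

/-- Right translation by `ρ`. -/
noncomputable def transR : pullback G.s (ρ ≫ G.t) ≅ pullback G.s (ρ ≫ G.s) where
  hom := pullback.lift (mul G (pullback.fst G.s (ρ ≫ G.t)) (pullback.snd G.s (ρ ≫ G.t) ≫ ρ)
    (by rw [Category.assoc, pullback.condition])) (pullback.snd G.s (ρ ≫ G.t)) (by rw [mul_s, Category.assoc])
  inv := pullback.lift (mul G (pullback.fst G.s (ρ ≫ G.s)) (inv G (pullback.snd G.s (ρ ≫ G.s) ≫ ρ))
    (by rw [inv_t, Category.assoc, pullback.condition])) (pullback.snd G.s (ρ ≫ G.s))
      (by rw [mul_s, inv_s, Category.assoc])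
  hom_inv_id := by
    apply pullback.hom_ext
    · rw [Category.assoc, pullback.lift_fst, comp_mul, Category.id_comp]
      rw [mul_congr G (α' := mul G (pullback.fst G.s (ρ ≫ G.t)) (pullback.snd G.s (ρ ≫ G.t) ≫ ρ)
        (by rw [Category.assoc, pullback.condition])) (β' := inv G (pullback.snd G.s (ρ ≫ G.t) ≫ ρ)) _
        (pullback.lift_fst _ _ _) (by rw [comp_inv, ← Category.assoc, pullback.lift_snd])]
      exact mul_inv_cancel_right G _ _ _ _
    · rw [Category.assoc, pullback.lift_snd, pullback.lift_snd, Category.id_comp]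
  inv_hom_id := by
    apply pullback.hom_ext
    · rw [Category.assoc, pullback.lift_fst, comp_mul, Category.id_comp]
      rw [mul_congr G (α' := mul G (pullback.fst G.s (ρ ≫ G.s)) (inv G (pullback.snd G.s (ρ ≫ G.s) ≫ ρ))
        (by rw [inv_t, Category.assoc, pullback.condition])) (β' := pullback.snd G.s (ρ ≫ G.s) ≫ ρ) _
        (pullback.lift_fst _ _ _) (by rw [← Category.assoc, pullback.lift_snd])]
      exact inv_mul_cancel_right G _ _ _ _
    · rw [Category.assoc, pullback.lift_snd, pullback.lift_snd, Category.id_comp]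

theorem transR_hom_snd : (transR G ρ).hom ≫ pullback.snd G.s (ρ ≫ G.s) = pullback.snd G.s (ρ ≫ G.t) :=
  pullback.lift_snd _ _ _

theorem lift_e_transR :
    pullback.lift ((ρ ≫ G.t) ≫ G.e) (𝟙 T) (by rw [Category.assoc, G.e_s, Category.id_comp, Category.comp_id]) ≫
      (transR G ρ).hom = pullback.lift ρ (𝟙 T) (by rw [Category.id_comp]) := by
  apply pullback.hom_ext
  · change (_ ≫ pullback.lift _ _ _) ≫ _ = _
    rw [Category.assoc, pullback.lift_fst, pullback.lift_fst, comp_mul]
    rw [mul_congr G (α' := one G (ρ ≫ G.t)) (β' := ρ) _ (by rw [pullback.lift_fst]; rfl)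
      (by rw [← Category.assoc, pullback.lift_snd, Category.id_comp])]
    exact one_mul G _ _ _
  · rw [Category.assoc, transR_hom_snd, pullback.lift_snd, pullback.lift_snd]

variable {G}

/-- A pointwise property of `s` holds at `r` iff it holds at the identity of the target of `r`. -/
theorem hasAtMor_s_iff (hQ : BCInv Q) (hU : IsAlgSpace G.U) (hR : IsAlgSpace G.R)
    (hs : LocP @LocallyOfFiniteType G.s) (r : Points G.R) :
    HasAtMor Q G.s r ↔ HasAtMor Q G.s (Points.map G.e (Points.map G.t r)) := by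
  induction r using Points.ind with
  | h p =>
    let ρ : (yon S).obj p.pt ⟶ G.R := p.toHom
    have hT : IsAlgSpace ((yon S).obj p.pt) := IsAlgSpace.yon_obj _
    have sqs := IsPullback.of_hasPullback G.s (ρ ≫ G.s)
    have sqt := IsPullback.of_hasPullback G.s (ρ ≫ G.t)
    have hPs := K613.Chart.isAlgSpace_of_isPullback hU.diag hR hT sqs
    have hPt := K613.Chart.isAlgSpace_of_isPullback hU.diag hR hT sqt
    let ξ : Points ((yon S).obj p.pt) := Points.ofScheme p.pt (IsLocalRing.closedPoint p.K)
    have hξ : Points.map ρ ξ = Points.mk p := by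
      rw [← Points.ofPt_toHom p (IsLocalRing.closedPoint p.K)]
      exact (Points.ofPt_eq_map_ofScheme p.toHom _).symm
    have e1 : Points.map (pullback.fst G.s (ρ ≫ G.t)) (Points.map (pullback.lift ((ρ ≫ G.t) ≫ G.e) (𝟙 _)
        (by rw [Category.assoc, G.e_s, Category.id_comp, Category.comp_id])) ξ) =
        Points.map G.e (Points.map G.t (Points.mk p)) := by
      rw [← Points.map_comp, pullback.lift_fst, Points.map_comp, Points.map_comp, hξ]
    have e2 : Points.map (pullback.fst G.s (ρ ≫ G.s)) (Points.map (pullback.lift ρ (𝟙 _)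
        (by rw [Category.id_comp])) ξ) = Points.mk p := by
      rw [← Points.map_comp, pullback.lift_fst, hξ]
    rw [← e1, hasAtMor_bc hQ hR hU hT hPt sqt hs, ← hasAtMor_iso_iff (transR G ρ) (transR_hom_snd G ρ),
      ← Points.map_comp, lift_e_transR, ← hasAtMor_bc hQ hR hU hT hPs sqs hs, e2]

end Translation

section Group

variable {B : Sp S} (G : Over B) [GrpObj G]

/-- A pointwise property of `G ⟶ B` holds at `y` iff it holds at the unit section over the image of `y`. -/
theorem hasAtMor_grp_iff (hQ : BCInv Q) (hB : IsAlgSpace B) (hG : IsAlgSpace G.left)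
    (hlft : LocP @LocallyOfFiniteType G.hom) (y : Points G.left) :
    HasAtMor Q G.hom y ↔ HasAtMor Q G.hom (Points.map (η[G]).left (Points.map G.hom y)) := by
  induction y using Points.ind with
  | h p =>
    let T : Over B := Over.mk (p.toHom ≫ G.hom)
    let x : T ⟶ G := Over.homMk p.toHom rfl
    have hT : IsAlgSpace T.left := IsAlgSpace.yon_obj _
    have sq := isPullback_tensor G T
    have hTG : IsAlgSpace (T ⊗ G).left := K613.Chart.isAlgSpace_of_isPullback hB.diag hG hT sq
    let ξ : Points T.left := Points.ofScheme p.pt (IsLocalRing.closedPoint p.K)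
    have hξ : Points.map p.toHom ξ = Points.mk p := by
      rw [← Points.ofPt_toHom p (IsLocalRing.closedPoint p.K)]
      exact (Points.ofPt_eq_map_ofScheme p.toHom _).symm
    have e1 : Points.map (snd T G).left (Points.map (lift (𝟙 T) (1 : T ⟶ G)).left ξ) =
        Points.map (η[G]).left (Points.map G.hom (Points.mk p)) := by
      rw [← Points.map_comp, ← Over.comp_left, lift_snd, Hom.one_def, Over.comp_left, Points.map_comp, ← hξ,
        ← Points.map_comp p.toHom]
      rfl
    have e2 : Points.map (snd T G).left (Points.map (lift (𝟙 T) x).left ξ) = Points.mk p := by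
      rw [← Points.map_comp, ← Over.comp_left, lift_snd, ← hξ]
      rfl
    have e3 : (lift (𝟙 T) x).left = (lift (𝟙 T) (1 : T ⟶ G)).left ≫ (transl x).hom.left := by
      rw [← Over.comp_left, lift_one_transl]
    rw [← e1, hasAtMor_bc hQ hG hB hT hTG sq hlft, ← e2, hasAtMor_bc hQ hG hB hT hTG sq hlft, e3, Points.map_comp]
    exact hasAtMor_iso_iff ((Over.forget B).mapIso (transl x)) (by
      change (transl x).hom.left ≫ (fst T G).left = (fst T G).left
      rw [← Over.comp_left, transl_hom_fst]) _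

end Group

/-! ### Dimension -/

/-- Over a scheme with one point the fibre dimension is the local dimension. -/
theorem fibreDimAt_of_subsingleton {X Y : Scheme.{u}} [Subsingleton Y] (f : X ⟶ Y) (x : X) :
    FlatMor.fibreDimAt f x = FlatMor.localDim X x := by
  rw [Groth.Agent.FlatA.FibreDim.fibreDimAt_eq]
  have h : (f : X → Y) ⁻¹' {f x} = Set.univ := Set.eq_univ_of_forall fun y => Subsingleton.elim _ _
  exact Groth.Agent.Flat2B.PointBC.localDim_homeomorph
    ((Homeomorph.setCongr h).trans (Homeomorph.Set.univ X)) ⟨x, rfl⟩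

instance subsingleton_specField (k : Type u) [Field k] : Subsingleton (Spec (CommRingCat.of k)) :=
  inferInstanceAs (Subsingleton (PrimeSpectrum k))

theorem subsingleton_of_iso {k : Type u} [Field k] {σ : Spec (CommRingCat.of k) ⟶ S} {F : Sp S}
    (e : F ≅ (yon S).obj (Over.mk σ)) : Subsingleton (Points F) := by
  constructor
  intro x y
  have h : Function.Injective (Points.map e.hom) := by
    intro a b hab
    have := congrArg (Points.map e.inv) hab
    rwa [← Points.map_comp, ← Points.map_comp, e.hom_inv_id, Points.map_id, Points.map_id] at this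
  apply h
  obtain ⟨a, ha⟩ := K609.Points.ofScheme_surjective _ (Points.map e.hom x)
  obtain ⟨b, hb⟩ := K609.Points.ofScheme_surjective _ (Points.map e.hom y)
  rw [← ha, ← hb]
  exact congrArg _ (Subsingleton.elim (α := PrimeSpectrum k) a b)

/-- For `F` locally of finite type over `Spec k` the fibre dimension is the local dimension. -/
theorem hasAt_localDim_iff {k : Type u} [Field k] {σ : Spec (CommRingCat.of k) ⟶ S} {F U : Sp S}
    (hF : IsAlgSpace F) (e : U ≅ (yon S).obj (Over.mk σ)) (f : F ⟶ U) (hf : LocP @LocallyOfFiniteType f)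
    (d : WithBot ℕ∞) (x : Points F) :
    HasAt (fun V v => FlatMor.localDim ↥V v = d) F x ↔ HasAtMor (fun _ _ h u => FlatMor.fibreDimAt h u = d) f x := by
  obtain ⟨V, a, v, ha, rfl⟩ := exists_chart hF x
  obtain ⟨h, hh⟩ := (yon S).map_surjective (a ≫ f ≫ e.hom)
  have hb : RepWith @Etale e.inv := MorphismProperty.of_isIso (RepWith @Etale) e.inv
  have w : a ≫ f = (yon S).map h ≫ e.inv := by rw [hh]; simp
  rw [hasAt_iff (K616.DimInv.etInvAt_localDim (fun c => c = d)) a ha,
    hasAtMor_iff (bcInv_fibreDimAt d).et hf a e.inv h ha hb w v]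
  have : Subsingleton (Over.mk σ).left := subsingleton_specField k
  rw [fibreDimAt_of_subsingleton]

theorem dim_eq_iSup (F : Sp S) : AlgSp.dim F =
    ⨆ (U : Over S) (a : (yon S).obj U ⟶ F) (_ : RepWith @Etale a) (u : U.left), FlatMor.localDim ↥U.left u := by
  unfold AlgSp.dim
  refine iSup_congr fun U => iSup_congr fun a => iSup_congr fun ha => ?_
  exact Groth.Agent.S5792.result _

/-- If the local dimension is constant it is the dimension. -/
theorem dim_eq_of_forall {F : Sp S} (hF : IsAlgSpace F) (x₀ : Points F) (d : WithBot ℕ∞)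
    (h : ∀ x : Points F, HasAt (fun V v => FlatMor.localDim ↥V v = d) F x) : AlgSp.dim F = d := by
  rw [dim_eq_iSup]
  apply le_antisymm
  · refine iSup_le fun U => iSup_le fun a => iSup_le fun ha => iSup_le fun u => ?_
    exact ((hasAt_iff (K616.DimInv.etInvAt_localDim (fun c => c = d)) a ha u).1 (h _)).le
  · obtain ⟨U, a, u, ha, rfl⟩ := exists_chart hF x₀
    rw [← (hasAt_iff (K616.DimInv.etInvAt_localDim (fun c => c = d)) a ha u).1 (h _)]
    exact le_iSup_of_le U (le_iSup_of_le a (le_iSup_of_le ha (le_iSup (fun u => FlatMor.localDim ↥U.left u) u)))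

/-- `dim_x = dim` when the local dimension is constant. -/
theorem hasAt_dim_of_const {F : Sp S} (hF : IsAlgSpace F) (x₀ : Points F)
    (h : ∀ (d : WithBot ℕ∞) (x y : Points F), HasAt (fun V v => FlatMor.localDim ↥V v = d) F x →
      HasAt (fun V v => FlatMor.localDim ↥V v = d) F y) (x : Points F) :
    HasAt (fun V v => FlatMor.localDim ↥V v = AlgSp.dim F) F x := by
  obtain ⟨U, a, u, ha, rfl⟩ := exists_chart hF x₀
  have h1 : ∀ x, HasAt (fun V v => FlatMor.localDim ↥V v = FlatMor.localDim ↥U.left u) F x := fun x =>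
    h _ _ x ((hasAt_iff (K616.DimInv.etInvAt_localDim (fun c => c = _)) a ha u).2 rfl)
  rw [dim_eq_of_forall hF (Points.ofPt a u) _ h1]
  exact h1 x

theorem gpd_hasAt_dim {B : Sp S} (G : GroupoidSp B) (hR : IsAlgSpace G.R) (k : Type u) [Field k]
    (σ : Spec (CommRingCat.of k) ⟶ S) (eU : G.U ≅ (yon S).obj (Over.mk σ))
    (hs : LocP @LocallyOfFiniteType G.s) (r : Points G.R) :
    HasAt (fun V v => FlatMor.localDim ↥V v = AlgSp.dim G.R) G.R r := by
  have hU : IsAlgSpace G.U := (IsAlgSpace.yon_obj _).of_iso eU.symm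
  have := subsingleton_of_iso eU
  refine hasAt_dim_of_const hR r (fun d x y h => ?_) r
  rw [hasAt_localDim_iff hR eU G.s hs, hasAtMor_s_iff (bcInv_fibreDimAt d) hU hR hs] at h ⊢
  rwa [Subsingleton.elim (Points.map G.t y) (Points.map G.t x)]

theorem grp_hasAt_dim (k : Type u) [Field k] (σ : Spec (CommRingCat.of k) ⟶ S)
    (G : Over ((yon S).obj (Over.mk σ))) [GrpObj G] (hG : IsAlgSpace G.left)
    (hlft : LocP @LocallyOfFiniteType G.hom) (g : Points G.left) :
    HasAt (fun V v => FlatMor.localDim ↥V v = AlgSp.dim G.left) G.left g := by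
  have hU : IsAlgSpace ((yon S).obj (Over.mk σ)) := IsAlgSpace.yon_obj _
  have := subsingleton_of_iso (Iso.refl ((yon S).obj (Over.mk σ)))
  refine hasAt_dim_of_const hG g (fun d x y h => ?_) g
  rw [hasAt_localDim_iff hG (Iso.refl _) G.hom hlft, hasAtMor_grp_iff G (bcInv_fibreDimAt d) hU hG hlft] at h ⊢
  rwa [Subsingleton.elim (Points.map G.hom y) (Points.map G.hom x)]

end K609.GpdDim
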