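import Groth.Prelude.Def_AlgSpGpd
import Groth.Prelude.Def_AlgSpDec
import Groth.Agent.AlgSp.K616.Near
import Groth.Agent.AlgSp.K597.LocP
import Groth.Agent.AlgSp.K597.EtLoc
import Groth.Agent.AlgSp.K610.Factor
import Groth.Agent.AlgSp.K613.Chart
import Groth.Agent.AlgSp.K609.Points
import Mathlib.CategoryTheory.Monoidal.Cartesian.Grp

/-!
# Group algebraic spaces: a local property at all points from the points of the unit section

* `transl x` : translation by a point `x : T ⟶ G` of a group object, an automorphism of `T ⊗ G` over `T`.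
* `hasAtMor_of_unit` : `P` near `y` follows from `P` near the unit section over the image of `y`.
* `locP_baseChange_iff` : `G ×_B B' ⟶ B'` has `P` iff `P` holds near the unit section over the image of `B'`.
* `exists_open` : the largest open of the base over which `P` holds.
-/

set_option autoImplicit false
set_option backward.isDefEq.respectTransparency.types false

universe u

open CategoryTheory CategoryTheory.Limits AlgebraicGeometry Opposite AlgSp MonoidalCategory
  CartesianMonoidalCategory MonObj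

namespace K609.GrpLoc

section Cat

variable {C : Type*} [Category* C] [CartesianMonoidalCategory C] {G T : C} [GrpObj G]

theorem lift_transl_comp (x y : T ⟶ G) :
    lift (fst T G) ((fst T G ≫ x) * snd T G) ≫ lift (fst T G) ((fst T G ≫ y) * snd T G) =
      lift (fst T G) ((fst T G ≫ (y * x)) * snd T G) := by
  rw [comp_lift, lift_fst, comp_mul, lift_snd, lift_fst_assoc, comp_mul, _root_.mul_assoc]

theorem lift_transl_one : lift (fst T G) ((fst T G ≫ (1 : T ⟶ G)) * snd T G) = 𝟙 _ := by
  rw [comp_one, _root_.one_mul, lift_fst_snd]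

/-- Translation by a point of a group object. -/
def transl (x : T ⟶ G) : T ⊗ G ≅ T ⊗ G where
  hom := lift (fst T G) ((fst T G ≫ x) * snd T G)
  inv := lift (fst T G) ((fst T G ≫ x⁻¹) * snd T G)
  hom_inv_id := by rw [lift_transl_comp, inv_mul_cancel, lift_transl_one]
  inv_hom_id := by rw [lift_transl_comp, mul_inv_cancel, lift_transl_one]

theorem transl_hom_fst (x : T ⟶ G) : (transl x).hom ≫ fst T G = fst T G := lift_fst _ _

theorem lift_one_transl (x : T ⟶ G) :
    lift (𝟙 T) (1 : T ⟶ G) ≫ (transl x).hom = lift (𝟙 T) x := by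
  change _ ≫ lift _ _ = _
  rw [comp_lift, lift_fst, comp_mul, lift_snd, lift_fst_assoc, Category.id_comp, _root_.mul_one]

end Cat

variable {S : Scheme.{u}}

/-- Pointwise properties of a morphism are invariant under automorphisms of the source over the target. -/
theorem hasAtMor_iso {Q : ∀ (U V : Scheme.{u}), (U ⟶ V) → ↥U → Prop} {F F' G : Sp S} (e : F ≅ F') {f : F ⟶ G}
    {f' : F' ⟶ G} (w : e.hom ≫ f' = f) {x : Points F} (H : HasAtMor Q f x) :
    HasAtMor Q f' (Points.map e.hom x) := by
  obtain ⟨U, V, a, b, h, u, ha, hb, sq, rfl, hQ⟩ := H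
  refine ⟨U, V, a ≫ e.hom, b, h, u, ?_, hb, ?_, ?_, hQ⟩
  · exact (MorphismProperty.cancel_right_of_respectsIso (RepWith @Etale) a e.hom).2 ha
  · rw [Category.assoc, w, sq]
  · rfl

/-- The properties used: étale local on source and target, stable under base change, with a locus that can be tested
after base change. -/
structure GLoc (P : MorphismProperty Scheme.{u}) : Prop where
  et : K597.EtLoc P
  zar : IsZariskiLocalAtSource P
  bc : P.IsStableUnderBaseChange
  desc : ∀ ⦃U V U' V' : Scheme.{u}⦄ ⦃h : U ⟶ V⦄ ⦃h' : U' ⟶ V'⦄ ⦃p : U' ⟶ U⦄ ⦃q : V' ⟶ V⦄, IsPullback p h' h q →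
    LocallyOfFiniteType h → ∀ u : ↥U', K616.Near.Near P U' V' h' u → K616.Near.Near P U V h (p u)

variable {P : MorphismProperty Scheme.{u}}

theorem hasAtMor_bc (hP : GLoc P) {X Y Y' X' : Sp S} (hX : IsAlgSpace X) (hY : IsAlgSpace Y)
    (hY' : IsAlgSpace Y') (hX' : IsAlgSpace X') {f : X ⟶ Y} {g : Y' ⟶ Y} {g' : X' ⟶ X} {f' : X' ⟶ Y'}
    (sq : IsPullback g' f' f g) (hf : LocP @LocallyOfFiniteType f) (x' : Points X') :
    HasAtMor (K616.Near.Near P) f (Points.map g' x') ↔ HasAtMor (K616.Near.Near P) f' x' := by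
  have := hP.bc
  have hf' : LocP @LocallyOfFiniteType f' := K597.locP_bc K597.etLoc_lft sq hX.hasAtlas hY.hasAtlas hY'.hasAtlas hf
  refine K616.Near.hasAtMor_baseChange (P := @LocallyOfFiniteType)
    (fun _ _ _ _ h h' p q _ _ _ _ w u => K616.Near.etInvOn_near hP.et h h' p q trivial trivial w u) ?_ hX hY hY' hX'
    sq hf hf' x'
  intro U V U' V' h h' p q sq' hh u
  exact ⟨K616.Near.near_of_isPullback sq' u, hP.desc sq' hh u⟩

section Group

variable {B : Sp S} (G : Over B) [GrpObj G]

omit [GrpObj G] in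
theorem isPullback_tensor (T : Over B) : IsPullback (snd T G).left (fst T G).left G.hom T.hom :=
  (IsPullback.of_hasPullback T.hom G.hom).flip

/-- `P` near `y` follows from `P` near the unit section over the image of `y`. -/
theorem hasAtMor_of_unit (hP : GLoc P) (hB : IsAlgSpace B) (hG : IsAlgSpace G.left)
    (hlft : LocP @LocallyOfFiniteType G.hom) (y : Points G.left)
    (H : HasAtMor (K616.Near.Near P) G.hom (Points.map (η[G]).left (Points.map G.hom y))) :
    HasAtMor (K616.Near.Near P) G.hom y := by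
  induction y using Points.ind with
  | h p =>
    let T : Over B := Over.mk (p.toHom ≫ G.hom)
    let x : T ⟶ G := Over.homMk p.toHom rfl
    have hT : IsAlgSpace T.left := IsAlgSpace.yon_obj _
    have sq := isPullback_tensor G T
    have hTG : IsAlgSpace (T ⊗ G).left := K613.Chart.isAlgSpace_of_isPullback hB.diag hG hT sq
    let ξ : Points T.left := Points.ofScheme p.pt (IsLocalRing.closedPoint p.K)
    have hξ : Points.map p.toHom ξ = Points.mk p := by
      rw [← Points.ofPt_toHom p (IsLocalRing.closedPoint p.K)]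
      exact (Points.ofPt_eq_map_ofScheme p.toHom _).symm
    -- the point of the unit section
    have e1 : Points.map (snd T G).left (Points.map (lift (𝟙 T) (1 : T ⟶ G)).left ξ) =
        Points.map (η[G]).left (Points.map G.hom (Points.mk p)) := by
      rw [← Points.map_comp, ← Over.comp_left, lift_snd, Hom.one_def, Over.comp_left, Points.map_comp, ← hξ,
        ← Points.map_comp p.toHom]
      rfl
    have e2 : Points.map (snd T G).left (Points.map (lift (𝟙 T) x).left ξ) = Points.mk p := by
      rw [← Points.map_comp, ← Over.comp_left, lift_snd, ← hξ]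
      rfl
    rw [← e1, hasAtMor_bc hP hG hB hT hTG sq hlft] at H
    rw [← e2, hasAtMor_bc hP hG hB hT hTG sq hlft]
    have e3 : (lift (𝟙 T) x).left = (lift (𝟙 T) (1 : T ⟶ G)).left ≫ (transl x).hom.left := by
      rw [← Over.comp_left, lift_one_transl]
    rw [e3, Points.map_comp]
    exact hasAtMor_iso ((Over.forget B).mapIso (transl x)) (by
      change (transl x).hom.left ≫ (fst T G).left = (fst T G).left
      rw [← Over.comp_left, transl_hom_fst]) H

/-- `G ×_B B' ⟶ B'` has `P` iff `P` holds near the unit section over the image of `B'`. -/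
theorem locP_iff (hP : GLoc P) (hB : IsAlgSpace B) (hG : IsAlgSpace G.left)
    (hlft : LocP @LocallyOfFiniteType G.hom) {B' G' : Sp S} (hB' : IsAlgSpace B') {f : B' ⟶ B} {g' : G' ⟶ G.left}
    {h : G' ⟶ B'} (sq : IsPullback g' h G.hom f) :
    LocP P h ↔ ∀ b : Points B', HasAtMor (K616.Near.Near P) G.hom (Points.map (η[G]).left (Points.map f b)) := by
  have := hP.zar
  have hG' : IsAlgSpace G' := K613.Chart.isAlgSpace_of_isPullback hB.diag hG hB' sq
  rw [K616.Near.locP_iff_near hP.et hG' hB']
  constructor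
  · intro H b
    have e : (f ≫ (η[G]).left) ≫ G.hom = 𝟙 B' ≫ f := by
      rw [Category.assoc, Over.w, Category.id_comp]
      exact Category.comp_id _
    have := (hasAtMor_bc hP hG hB hB' hG' sq hlft _).2 (H (Points.map (sq.lift (f ≫ (η[G]).left) (𝟙 B') e) b))
    rwa [← Points.map_comp, sq.lift_fst, Points.map_comp] at this
  · intro H y
    rw [← hasAtMor_bc hP hG hB hB' hG' sq hlft]
    apply hasAtMor_of_unit G hP hB hG hlft
    rw [← Points.map_comp g' G.hom, sq.w, Points.map_comp]
    exact H _

theorem locP_self_iff (hP : GLoc P) (hB : IsAlgSpace B) (hG : IsAlgSpace G.left)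
    (hlft : LocP @LocallyOfFiniteType G.hom) :
    LocP P G.hom ↔ ∀ b : Points B, HasAtMor (K616.Near.Near P) G.hom (Points.map (η[G]).left b) := by
  rw [locP_iff G hP hB hG hlft hB (IsPullback.of_horiz_isIso (fst := 𝟙 _) (snd := G.hom) (f := G.hom) (g := 𝟙 B) ⟨by simp⟩)]
  refine forall_congr' fun b => ?_
  rw [Points.map_id]

/-- The largest open of the base over which `P` holds. -/
theorem exists_open (hP : GLoc P) (hB : IsAlgSpace B) (hG : IsAlgSpace G.left)
    (hlft : LocP @LocallyOfFiniteType G.hom) :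
    ∃ (W : Sp S) (w : W ⟶ B), RepWith @IsOpenImmersion w ∧
      ∀ (B' G' : Sp S) (_ : IsAlgSpace B') (f : B' ⟶ B) (g' : G' ⟶ G.left) (h : G' ⟶ B') (_ : IsPullback g' h G.hom f),
        LocP P h ↔ ∃ k : B' ⟶ W, k ≫ w = f := by
  have hO : IsOpen {b : Points B | HasAtMor (K616.Near.Near P) G.hom (Points.map (η[G]).left b)} :=
    (K616.Near.isOpen_near P G.hom).preimage (Points.continuous_map (η[G]).left)
  refine ⟨_, (K610.Sub.openPred _).ι, K610.Sub.repWith_openPred hO, fun B' G' hB' f g' h sq => ?_⟩
  rw [K610.Factor.factors_open_iff (K610.Sub.repWith_openPred hO), K610.Sub.range_openPred,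
    locP_iff G hP hB hG hlft hB' sq]
  constructor
  · rintro H _ ⟨b, rfl⟩
    exact H b
  · intro H b
    exact H ⟨b, rfl⟩

/-- The form used in the milestones. -/
theorem exists_largest_open (hP : GLoc P) (hB : IsAlgSpace B) (hG : IsAlgSpace G.left)
    (hlft : LocP @LocallyOfFiniteType G.hom) :
    ∃ (W : Sp S) (w : W ⟶ B), RepWith @IsOpenImmersion w ∧
      (∀ (W' : Sp S) (w' : W' ⟶ B), RepWith @IsOpenImmersion w' →
        (LocP P (pullback.snd G.hom w') ↔ ∃ k : W' ⟶ W, k ≫ w = w')) ∧
      (∀ (B' : Sp S), IsAlgSpace B' → ∀ (f : B' ⟶ B) (W'' : Sp S) (w'' : W'' ⟶ B'), RepWith @IsOpenImmersion w'' →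
        (LocP P (pullback.snd (pullback.snd G.hom f) w'') ↔
          ∃ k : W'' ⟶ pullback w f, k ≫ pullback.snd w f = w'')) := by
  obtain ⟨W, w, hw, H⟩ := exists_open G hP hB hG hlft
  refine ⟨W, w, hw, ?_, ?_⟩
  · intro W' w' hw'
    have := K610.Factor.mono_of_isOpenImmersion hw'
    exact H W' _ (K610.Sub.isAlgSpace_of_mono hw'.1 hB) w' _ _ (IsPullback.of_hasPullback _ _)
  · intro B' hB' f W'' w'' hw''
    have := K610.Factor.mono_of_isOpenImmersion hw''
    rw [H W'' _ (K610.Sub.isAlgSpace_of_mono hw''.1 hB') (w'' ≫ f) _ _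
      ((IsPullback.of_hasPullback (pullback.snd G.hom f) w'').paste_horiz (IsPullback.of_hasPullback G.hom f))]
    constructor
    · rintro ⟨k, hk⟩
      exact ⟨pullback.lift k w'' hk, pullback.lift_snd _ _ _⟩
    · rintro ⟨k, hk⟩
      exact ⟨k ≫ pullback.fst w f, by rw [Category.assoc, pullback.condition, ← Category.assoc, hk]⟩

end Group

end K609.GrpLoc
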