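import Groth.Agent.AlgSp.K609.GrpLoc
import Groth.Agent.AlgSp.K616.NearDim
import Groth.Agent.UnramA.PullbackChart

/-!
# `GLoc` for unramified and locally quasi-finite
-/

set_option autoImplicit false
set_option backward.isDefEq.respectTransparency.types false

universe u

open CategoryTheory CategoryTheory.Limits AlgebraicGeometry Opposite AlgSp

namespace K609.GrpLoc

theorem near_unram_iff {A B : Scheme.{u}} (k : A ⟶ B) [LocallyOfFiniteType k] (z : A) :
    K616.Near.Near (@LocallyOfFiniteType ⊓ @FormallyUnramified) A B k z ↔ (k.stalkMap z).hom.FormallyUnramified := by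
  rw [← Groth.Agent.UnramA.NearPoint.exists_formallyUnramified_nhd_iff]
  constructor
  · rintro ⟨W, h1, h2, h3⟩
    exact ⟨W, h1, h3⟩
  · rintro ⟨W, h1, h3⟩
    exact ⟨W, h1, inferInstance, h3⟩

theorem gLoc_unram : GLoc (@LocallyOfFiniteType.{u} ⊓ @FormallyUnramified.{u}) where
  et := K597.etLoc_unram
  zar := K597.zarSource_inf _ _
  bc := K597.stableBC_inf _ _
  desc := by
    intro U V U' V' h h' p q sq hh u H
    have : LocallyOfFiniteType h' := MorphismProperty.of_isPullback sq hh
    rw [near_unram_iff] at H ⊢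
    exact Groth.Agent.UnramA.PullbackChart.formallyUnramified_stalkMap_of_isPullback sq u H

theorem gLoc_lqf : GLoc (@LocallyQuasiFinite.{u} ⊓ @LocallyOfFiniteType.{u}) where
  et := K597.etLoc_lqf
  zar := K597.zarSource_inf _ _
  bc := K597.stableBC_inf _ _
  desc := by
    intro U V U' V' h h' p q sq hh u H
    have : LocallyOfFiniteType h' := MorphismProperty.of_isPullback sq hh
    rw [K616.NearDim.near_lqf_iff] at H ⊢
    exact (Groth.Agent.Ega4fib.H172.FibDimBC.fibreDimAt_of_isPullback sq u).symm.trans H

end K609.GrpLoc
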