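import Groth.Agent.AlgSp.K594.Basic
import Groth.Agent.AlgSp.K607.QuotSp
import Groth.Agent.AlgSp.K610.Sub
import Groth.Prelude.Def_Grpd

/-!
# Quotient sheaves of schemes: local description, and open subspaces of the quotient

* `qmap s t : h_U ⟶ U/R` and `isColimit_qmap`.
* `exists_cov_rel`, `exists_cov_lift`.
* `repWith_isOpenImmersion` : the criterion for `U'/R' ⟶ U/R` to be an open immersion.
-/

set_option autoImplicit false
set_option backward.isDefEq.respectTransparency.types false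

universe u

open CategoryTheory CategoryTheory.Limits AlgebraicGeometry Opposite AlgSp

namespace K609.QuotOpen

open K594.Elem K594.Cover K594.Basic

variable {S : Scheme.{u}}

/-- The isomorphism `h_V ≅ rep V`. -/
noncomputable def repIso (V : Over S) : (yon S).obj V ≅ QuotSh.rep Scheme.fppfPrecoverage V :=
  (QuotSh.repIsoUliftYoneda Scheme.fppfPrecoverage V).symm

theorem repIso_naturality {V W : Over S} (g : V ⟶ W) :
    (yon S).map g ≫ (repIso W).hom = (repIso V).hom ≫ QuotSh.repMap Scheme.fppfPrecoverage g := by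
  apply (sheafToPresheaf (J S) (Type (u + 1))).map_injective
  exact toSheafify_naturality (J S) (Functor.whiskerRight (yoneda.map g) uliftFunctor.{u + 1, u})

theorem repIso_inv_naturality {V W : Over S} (g : V ⟶ W) :
    QuotSh.repMap Scheme.fppfPrecoverage g ≫ (repIso W).inv = (repIso V).inv ≫ (yon S).map g := by
  rw [Iso.comp_inv_eq, Category.assoc, repIso_naturality, Iso.inv_hom_id_assoc]

section Quot

variable {R U : Over S} (s t : R ⟶ U)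

/-- The quotient map `h_U ⟶ U/R`. -/
noncomputable def qmap : (yon S).obj U ⟶ QuotSh.quot Scheme.fppfPrecoverage s t :=
  (repIso U).hom ≫ QuotSh.quotπ Scheme.fppfPrecoverage s t

theorem qmap_condition : (yon S).map s ≫ qmap s t = (yon S).map t ≫ qmap s t := by
  unfold qmap
  rw [← Category.assoc, ← Category.assoc, repIso_naturality, repIso_naturality, Category.assoc, Category.assoc,
    QuotSh.quot_condition]

/-- `h_U ⟶ U/R` is a coequalizer of `h_s, h_t`. -/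
noncomputable def isColimit_qmap : IsColimit (Cofork.ofπ (qmap s t) (qmap_condition s t)) := by
  refine Cofork.IsColimit.mk' _ fun c => ?_
  have hc : QuotSh.repMap Scheme.fppfPrecoverage s ≫ (repIso U).inv ≫ c.π =
      QuotSh.repMap Scheme.fppfPrecoverage t ≫ (repIso U).inv ≫ c.π := by
    rw [← Category.assoc, ← Category.assoc, repIso_inv_naturality, repIso_inv_naturality, Category.assoc,
      Category.assoc, c.condition]
  refine ⟨coequalizer.desc ((repIso U).inv ≫ c.π) hc, ?_, ?_⟩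
  · change ((repIso U).hom ≫ coequalizer.π _ _) ≫ coequalizer.desc _ hc = c.π
    rw [Category.assoc, coequalizer.π_desc, Iso.hom_inv_id_assoc]
  · intro m hm
    refine coequalizer.hom_ext (f := QuotSh.repMap Scheme.fppfPrecoverage s)
      (g := QuotSh.repMap Scheme.fppfPrecoverage t) (k := m) ?_
    rw [coequalizer.π_desc, Iso.eq_inv_comp, ← hm]
    exact (Category.assoc _ _ _).symm

instance epi_qmap : Epi (qmap s t) := by
  have h : Epi (QuotSh.quotπ Scheme.fppfPrecoverage s t) :=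
    coequalizer.π_epi (f := QuotSh.repMap Scheme.fppfPrecoverage s) (g := QuotSh.repMap Scheme.fppfPrecoverage t)
  unfold qmap
  exact epi_comp _ _

end Quot

/-- The relation on `T`-points. -/
theorem rel_yon_iff {R U : Over S} (s t : R ⟶ U) {T : Over S} (a b : T ⟶ U) :
    K607.QuotSp.Rel ((yon S).map s) ((yon S).map t) (X := op T) ⟨a⟩ ⟨b⟩ ↔
      ∃ ρ : T ⟶ R, ρ ≫ t = a ∧ ρ ≫ s = b := by
  constructor
  · rintro ⟨⟨ρ⟩, h1, h2⟩
    exact ⟨ρ, congrArg ULift.down h1, congrArg ULift.down h2⟩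
  · rintro ⟨ρ, h1, h2⟩
    exact ⟨⟨ρ⟩, congrArg ULift.up h1, congrArg ULift.up h2⟩

theorem equivalence_rel {R U : Over S} {s t : R ⟶ U}
    (hE : ∀ T : Over S, _root_.Equivalence (fun a b : T ⟶ U => ∃ ρ : T ⟶ R, ρ ≫ t = a ∧ ρ ≫ s = b))
    (X : (Over S)ᵒᵖ) :
    _root_.Equivalence (K607.QuotSp.Rel ((yon S).map s) ((yon S).map t) (X := X)) := by
  have h := hE X.unop
  refine ⟨?_, ?_, ?_⟩
  · rintro ⟨a⟩
    exact (rel_yon_iff s t (T := X.unop) a a).2 (h.refl a)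
  · rintro ⟨a⟩ ⟨b⟩ hab
    exact (rel_yon_iff s t (T := X.unop) b a).2 (h.symm ((rel_yon_iff s t (T := X.unop) a b).1 hab))
  · rintro ⟨a⟩ ⟨b⟩ ⟨c⟩ hab hbc
    exact (rel_yon_iff s t (T := X.unop) a c).2 (h.trans ((rel_yon_iff s t (T := X.unop) a b).1 hab)
      ((rel_yon_iff s t (T := X.unop) b c).1 hbc))

/-- Two points of `U` with the same image in the quotient are related after an fppf cover. -/
theorem exists_cov_rel {R U : Over S} {s t : R ⟶ U}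
    (hE : ∀ T : Over S, _root_.Equivalence (fun a b : T ⟶ U => ∃ ρ : T ⟶ R, ρ ≫ t = a ∧ ρ ≫ s = b))
    {Q : Sp S} {q : (yon S).obj U ⟶ Q} {w : (yon S).map s ≫ q = (yon S).map t ≫ q}
    (hq : IsColimit (Cofork.ofπ q w)) {T : Over S} (a b : T ⟶ U)
    (h : q.hom.app (op T) ⟨a⟩ = q.hom.app (op T) ⟨b⟩) :
    ∃ (T' : Over S) (c : T' ⟶ T) (ρ : T' ⟶ R), Cov c ∧ ρ ≫ t = c ≫ a ∧ ρ ≫ s = c ≫ b := by
  obtain ⟨W, hW, hW'⟩ := K607.QuotSp.exists_rel (equivalence_rel hE) hq (X := T) ⟨a⟩ ⟨b⟩ h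
  obtain ⟨ι, V, g, hg, hgW⟩ := exists_fam_of_mem hW
  have h2 : ∀ i, ∃ ρ : V i ⟶ R, ρ ≫ t = g i ≫ a ∧ ρ ≫ s = g i ≫ b := fun i =>
    (rel_yon_iff s t (g i ≫ a) (g i ≫ b)).1 (hW' (g i) (hgW i))
  choose ρ h3 h4 using h2
  obtain ⟨⟨r⟩, hr, -⟩ := exists_sig V ((yon S).obj R) (fun i => ⟨ρ i⟩)
  have hr' : ∀ i, sigι V i ≫ r = ρ i := fun i => congrArg ULift.down (hr i)
  refine ⟨sig V, sigDesc g, r, hg.cov, ?_, ?_⟩
  · apply sig_hom_ext
    intro i
    rw [← Category.assoc, hr', h3, ← Category.assoc, sigι_desc]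
  · apply sig_hom_ext
    intro i
    rw [← Category.assoc, hr', h4, ← Category.assoc, sigι_desc]

/-- Sections of a quotient lift after an fppf cover. -/
theorem exists_cov_lift {U : Over S} {Q : Sp S} (q : (yon S).obj U ⟶ Q) [Epi q] {T : Over S}
    (x : Q.obj.obj (op T)) : ∃ (T' : Over S) (c : T' ⟶ T) (a : T' ⟶ U), Cov c ∧
      q.hom.app (op T') ⟨a⟩ = Q.obj.map c.op x := by
  have := (Sheaf.isLocallySurjective_iff_epi q).2 inferInstance
  obtain ⟨T', c, ⟨a⟩, hc, ha⟩ := (isLocallySurjective_iff q).1 this T x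
  exact ⟨T', c, a, hc, ha⟩

/-- Naturality of a map out of `h_U`. -/
theorem map_app {U : Over S} {Q : Sp S} (q : (yon S).obj U ⟶ Q) {T T' : Over S} (c : T' ⟶ T) (a : T ⟶ U) :
    Q.obj.map c.op (q.hom.app (op T) ⟨a⟩) = q.hom.app (op T') ⟨c ≫ a⟩ :=
  (app_map q c (⟨a⟩ : ((yon S).obj U).obj.obj (op T))).symm

theorem app_of_comp_eq {U U' : Over S} {Q Q' : Sp S} {q : (yon S).obj U ⟶ Q} {q' : (yon S).obj U' ⟶ Q'}
    {g : U' ⟶ U} {ψ : Q' ⟶ Q} (hψ : q' ≫ ψ = (yon S).map g ≫ q) {T : Over S} (a : T ⟶ U') :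
    ψ.hom.app (op T) (q'.hom.app (op T) ⟨a⟩) = q.hom.app (op T) ⟨a ≫ g⟩ :=
  congrArg (fun k : (yon S).obj U' ⟶ Q => k.hom.app (op T) ⟨a⟩) hψ

section Main

variable {R U R' U' : Over S} {s t : R ⟶ U} {s' t' : R' ⟶ U'} {g : U' ⟶ U}
    {Q Q' : Sp S} {q : (yon S).obj U ⟶ Q} {q' : (yon S).obj U' ⟶ Q'} {ψ : Q' ⟶ Q}

/-- The map of quotients is injective when `R'` is the restriction of `R`. -/
theorem injective_of_restrict
    (hE : ∀ T : Over S, _root_.Equivalence (fun a b : T ⟶ U => ∃ ρ : T ⟶ R, ρ ≫ t = a ∧ ρ ≫ s = b))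
    {w : (yon S).map s ≫ q = (yon S).map t ≫ q} (hq : IsColimit (Cofork.ofπ q w)) [Epi q']
    (w' : (yon S).map s' ≫ q' = (yon S).map t' ≫ q') (hψ : q' ≫ ψ = (yon S).map g ≫ q)
    (h1 : ∀ (T : Over S) (a b : T ⟶ U') (ρ : T ⟶ R), ρ ≫ t = a ≫ g → ρ ≫ s = b ≫ g →
      ∃ ρ' : T ⟶ R', ρ' ≫ t' = a ∧ ρ' ≫ s' = b) {T : Over S} (x y : Q'.obj.obj (op T))
    (hxy : ψ.hom.app (op T) x = ψ.hom.app (op T) y) : x = y := by
  obtain ⟨T₁, c₁, a, hc₁, ha⟩ := exists_cov_lift q' x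
  obtain ⟨T₂, c₂, b, hc₂, hb⟩ := exists_cov_lift q' (Q'.obj.map c₁.op y)
  apply hc₁.ext Q'
  apply hc₂.ext Q'
  have h2 : q.hom.app (op T₂) ⟨(c₂ ≫ a) ≫ g⟩ = q.hom.app (op T₂) ⟨b ≫ g⟩ := by
    rw [← app_of_comp_eq hψ, ← app_of_comp_eq hψ, hb, ← map_app, ha, app_map, app_map, hxy, ← app_map, ← app_map]
  obtain ⟨T₃, c₃, ρ, hc₃, hρ1, hρ2⟩ := exists_cov_rel hE hq _ _ h2
  obtain ⟨ρ', h3, h4⟩ := h1 T₃ (c₃ ≫ c₂ ≫ a) (c₃ ≫ b) ρ (by rw [hρ1]; simp) (by rw [hρ2]; simp)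
  apply hc₃.ext Q'
  rw [← ha, ← hb, map_app, map_app, map_app, ← h3, ← h4]
  exact (congrArg (fun k : (yon S).obj R' ⟶ Q' => k.hom.app (op T₃) ⟨ρ'⟩) w').symm

/-- The map of quotients `U'/R' ⟶ U/R` is an open immersion when `R'` is the restriction of `R` and the points of `U`
related to points of `U'` are those of an open subscheme. -/
theorem repWith_isOpenImmersion
    (hE : ∀ T : Over S, _root_.Equivalence (fun a b : T ⟶ U => ∃ ρ : T ⟶ R, ρ ≫ t = a ∧ ρ ≫ s = b))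
    {w : (yon S).map s ≫ q = (yon S).map t ≫ q} (hq : IsColimit (Cofork.ofπ q w)) [Epi q] [Epi q']
    (w' : (yon S).map s' ≫ q' = (yon S).map t' ≫ q') (hψ : q' ≫ ψ = (yon S).map g ≫ q)
    (h1 : ∀ (T : Over S) (a b : T ⟶ U') (ρ : T ⟶ R), ρ ≫ t = a ≫ g → ρ ≫ s = b ≫ g →
      ∃ ρ' : T ⟶ R', ρ' ≫ t' = a ∧ ρ' ≫ s' = b)
    (W : U.left.Opens)
    (h2 : ∀ (T : Over S) (x : T ⟶ U), Set.range x.left ⊆ W → ∃ (T' : Over S) (c : T' ⟶ T) (a : T' ⟶ U')
      (ρ : T' ⟶ R), Cov c ∧ ρ ≫ t = a ≫ g ∧ ρ ≫ s = c ≫ x)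
    (h3 : ∀ (T : Over S) (a : T ⟶ U') (ρ : T ⟶ R), ρ ≫ t = a ≫ g → Set.range (ρ ≫ s).left ⊆ W) :
    RepWith @IsOpenImmersion ψ := by
  have hinj : ∀ {T : Over S} (x y : Q'.obj.obj (op T)), ψ.hom.app (op T) x = ψ.hom.app (op T) y → x = y :=
    fun x y hxy => injective_of_restrict hE hq w' hψ h1 x y hxy
  apply repWith_of_exists
  intro T x
  obtain ⟨T₁, c, a₁, hc, ha₁⟩ := exists_cov_lift q x
  have hfl := hc.flat
  have hlfp := hc.lfp
  have hsurj := hc.surj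
  let O₁ : T₁.left.Opens := a₁.left ⁻¹ᵁ W
  let O : T.left.Opens := ⟨c.left '' O₁, c.left.isOpenMap _ O₁.isOpen⟩
  obtain ⟨V, i, hi, hio, hV⟩ := K610.Sub.exists_open (T := T) O
  -- Claim B
  have hB : ∀ {T' : Over S} (f : T' ⟶ T) (y : Q'.obj.obj (op T')),
      ψ.hom.app (op T') y = Q.obj.map f.op x → Set.range f.left ⊆ O := by
    intro T' f y hy
    obtain ⟨T₄, c₄, a, hc₄, ha⟩ := exists_cov_lift q' y
    obtain ⟨T₅, c₅, h, sq, hc₅⟩ := hc.exists_baseChange (c₄ ≫ f)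
    have e1 : q.hom.app (op T₅) ⟨(c₅ ≫ a) ≫ g⟩ = q.hom.app (op T₅) ⟨h ≫ a₁⟩ := by
      rw [← app_of_comp_eq hψ, ← map_app, ha, app_map, app_map, hy, ← map_app, ha₁, ← map_comp_apply,
        ← map_comp_apply, ← map_comp_apply, sq.w, Category.assoc]
    obtain ⟨T₆, c₆, ρ, hc₆, hρ1, hρ2⟩ := exists_cov_rel hE hq _ _ e1
    have e2 := h3 T₆ (c₆ ≫ c₅ ≫ a) ρ (by rw [hρ1]; simp)
    rintro _ ⟨t', rfl⟩
    obtain ⟨t₄, rfl⟩ := hc₄.surj.surj t'
    obtain ⟨t₅, rfl⟩ := hc₅.surj.surj t₄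
    obtain ⟨t₆, rfl⟩ := hc₆.surj.surj t₅
    refine ⟨h.left (c₆.left t₆), ?_, ?_⟩
    · have e3 : (ρ ≫ s).left t₆ ∈ W := e2 ⟨t₆, rfl⟩
      rw [hρ2] at e3
      exact e3
    · have e4 := congrArg (fun k : T₅ ⟶ T => k.left (c₆.left t₆)) sq.w
      exact e4
  -- Claim A
  have hA : ∃ ξ : Q'.obj.obj (op V), ψ.hom.app (op V) ξ = Q.obj.map i.op x := by
    obtain ⟨T₂, j, hj, hjo, hT₂⟩ := K610.Sub.exists_open (T := T₁) O₁
    have hjr : Set.range j.left ⊆ O₁ := (hT₂ T₂ j).1 ⟨𝟙 _, Category.id_comp _⟩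
    have hjr' : ∀ p ∈ O₁, ∃ z, j.left z = p := by
      intro p hp
      let Z : Over S := Over.mk (O₁.ι ≫ T₁.hom)
      obtain ⟨k, hk⟩ := (hT₂ Z (Over.homMk O₁.ι rfl)).2 (by
        change Set.range O₁.ι ⊆ _
        simp)
      refine ⟨k.left ⟨p, hp⟩, ?_⟩
      have := congrArg (fun m : Z ⟶ T₁ => m.left ⟨p, hp⟩) hk
      exact this
    obtain ⟨c₂, hc₂⟩ := (hV T₂ (j ≫ c)).2 (by
      rintro _ ⟨z, rfl⟩
      exact ⟨j.left z, hjr ⟨z, rfl⟩, rfl⟩)
    have hcov₂ : Cov c₂ := by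
      have sq : IsPullback (𝟙 T₂) c₂ (c₂ ≫ i) i :=
        ⟨⟨by simp⟩, ⟨PullbackCone.IsLimit.mk _ (fun σ => σ.fst) (fun σ => by simp)
          (fun σ => by rw [← cancel_mono i, Category.assoc, σ.condition]) (fun σ m h _ => by simpa using h)⟩⟩
      have sq' := sq.map (Over.forget S)
      have e1 : (c₂ ≫ i).left = j.left ≫ c.left := by rw [hc₂]; rfl
      have hf : Flat (c₂ ≫ i).left := by rw [e1]; infer_instance
      have hl : LocallyOfFinitePresentation (c₂ ≫ i).left := by rw [e1]; infer_instance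
      refine ⟨MorphismProperty.of_isPullback (P := @Flat) sq' hf,
        MorphismProperty.of_isPullback (P := @LocallyOfFinitePresentation) sq' hl, ⟨fun v => ?_⟩⟩
      have hv : i.left v ∈ O := (hV V i).1 ⟨𝟙 _, Category.id_comp _⟩ ⟨v, rfl⟩
      obtain ⟨p, hp, hpv⟩ := hv
      obtain ⟨z, rfl⟩ := hjr' p hp
      refine ⟨z, i.left.isOpenEmbedding.injective ?_⟩
      have := congrArg (fun m : T₂ ⟶ T => m.left z) hc₂
      exact this.trans hpv
    obtain ⟨T₃, c₃, a, ρ, hc₃, hρ1, hρ2⟩ := h2 T₂ (j ≫ a₁) (by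
      rintro _ ⟨z, rfl⟩
      exact hjr ⟨z, rfl⟩)
    have e5 : ψ.hom.app (op T₃) (q'.hom.app (op T₃) ⟨a⟩) = Q.obj.map (c₃ ≫ c₂).op (Q.obj.map i.op x) := by
      rw [app_of_comp_eq hψ, ← hρ1, ← map_comp_apply, Category.assoc, hc₂]
      have e6 : q.hom.app (op T₃) ⟨ρ ≫ t⟩ = q.hom.app (op T₃) ⟨ρ ≫ s⟩ :=
        (congrArg (fun k : (yon S).obj R ⟶ Q => k.hom.app (op T₃) ⟨ρ⟩) w).symm
      rw [e6, hρ2, ← map_app, ← map_app, ha₁, ← map_comp_apply, ← map_comp_apply, Category.assoc]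
    obtain ⟨ξ, hξ⟩ := (hcov₂.comp hc₃).glue Q' (q'.hom.app (op T₃) ⟨a⟩) (by
      intro Z z₁ z₂ hz
      apply hinj
      rw [app_map, app_map, e5]
      exact (map_comp_apply _ _ _ _).symm.trans ((congrArg (fun k => Q.obj.map k.op (Q.obj.map i.op x)) hz).trans
        (map_comp_apply _ _ _ _)))
    refine ⟨ξ, (hcov₂.comp hc₃).ext Q ?_⟩
    rw [← app_map, hξ, e5]
  obtain ⟨ξ, hξ⟩ := hA
  refine ⟨V, i, ξ, ⟨hξ, fun a b hab _ => (cancel_mono i).1 hab, fun {T'} f y hy => ?_⟩, hio⟩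
  obtain ⟨k, hk⟩ := (hV T' f).2 (hB f y hy)
  refine ⟨k, hk, hinj _ _ ?_⟩
  rw [app_map, hξ, ← map_comp_apply, hk, hy]

end Main

theorem grpd_e_pR (G : Grpd.GroupoidScheme S) : G.e ≫ G.pR = G.pU := by
  rw [← G.s_over, ← Category.assoc, G.e_s, Category.id_comp]

theorem grpd_i_pR (G : Grpd.GroupoidScheme S) : G.i ≫ G.pR = G.pR := by
  have h : G.i ≫ G.s ≫ G.pU = G.t ≫ G.pU := by rw [← Category.assoc, G.i_s]
  rwa [G.s_over, G.t_over] at h

theorem grpd_c_pR (G : Grpd.GroupoidScheme S) {T : Scheme.{u}} (α β : T ⟶ G.R) (h : α ≫ G.s = β ≫ G.t) :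
    (pullback.lift α β h ≫ G.c) ≫ G.pR = β ≫ G.pR := by
  have h' : ((pullback.lift α β h ≫ G.c) ≫ G.s) ≫ G.pU = (β ≫ G.s) ≫ G.pU := by rw [G.comp_s]
  simpa only [Category.assoc, G.s_over] using h'

/-- The relation on the points of the objects of a groupoid scheme given by its arrows. -/
theorem equivalence_groupoidScheme (G : Grpd.GroupoidScheme S) (T : Over S) :
    _root_.Equivalence (fun a b : T ⟶ Over.mk G.pU => ∃ ρ : T ⟶ Over.mk G.pR,
      ρ ≫ (Over.homMk G.t G.t_over : Over.mk G.pR ⟶ Over.mk G.pU) = a ∧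
        ρ ≫ (Over.homMk G.s G.s_over : Over.mk G.pR ⟶ Over.mk G.pU) = b) := by
  refine ⟨fun a => ?_, ?_, ?_⟩
  · refine ⟨Over.homMk (a.left ≫ G.e) ?_, ?_, ?_⟩
    · change (a.left ≫ G.e) ≫ G.pR = T.hom
      rw [Category.assoc, grpd_e_pR]
      exact Over.w a
    · ext1
      change (a.left ≫ G.e) ≫ G.t = a.left
      rw [Category.assoc, G.e_t]
      exact Category.comp_id _
    · ext1
      change (a.left ≫ G.e) ≫ G.s = a.left
      rw [Category.assoc, G.e_s]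
      exact Category.comp_id _
  · rintro a b ⟨ρ, rfl, rfl⟩
    refine ⟨Over.homMk (ρ.left ≫ G.i) ?_, ?_, ?_⟩
    · change (ρ.left ≫ G.i) ≫ G.pR = T.hom
      rw [Category.assoc, grpd_i_pR]
      exact Over.w ρ
    · ext1
      change (ρ.left ≫ G.i) ≫ G.t = ρ.left ≫ G.s
      rw [Category.assoc, G.i_t]
    · ext1
      change (ρ.left ≫ G.i) ≫ G.s = ρ.left ≫ G.t
      rw [Category.assoc, G.i_s]
  · rintro a b c ⟨ρ, rfl, h⟩ ⟨σ, h', rfl⟩
    have e : ρ.left ≫ G.s = σ.left ≫ G.t := (congrArg Over.Hom.left h).trans (congrArg Over.Hom.left h').symm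
    refine ⟨Over.homMk (pullback.lift ρ.left σ.left e ≫ G.c) ?_, ?_, ?_⟩
    · change (pullback.lift ρ.left σ.left e ≫ G.c) ≫ G.pR = T.hom
      rw [grpd_c_pR]
      exact Over.w σ
    · ext1
      exact G.comp_t _ _ e
    · ext1
      exact G.comp_s _ _ e

end K609.QuotOpen
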