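import Groth.Agent.AlgSp.K609.QuotOpen
import Groth.Agent.AlgSp.K594.EqvRel
import Groth.Agent.AlgSp.K607.Eqv

/-!
# Restrictions of equivalence relations with the same quotient

* `Slices s t s' t' g r`: `(R', s', t')` is the restriction of `(R, s, t)` along `g` and every point of `U` is, after an
  fppf cover, related to a point of `U'`.
* `Slices.comp`, `Slices.exists_iso` (the quotients agree).
* `isPullback_h` : `s'` is the base change along `g` of `h : U' ×_U R ⟶ U`.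
* `exists_restrict`, `slices_of_h`.
-/

set_option autoImplicit false
set_option backward.isDefEq.respectTransparency.types false

universe u

open CategoryTheory CategoryTheory.Limits AlgebraicGeometry Opposite AlgSp

namespace K609.Slice

open K594.Elem K594.Cover K594.Basic K609.QuotOpen

variable {S : Scheme.{u}}

theorem isIso_of_bijective {F G : Sp S} (f : F ⟶ G)
    (h : ∀ T : Over S, Function.Bijective (f.hom.app (op T))) : IsIso f := by
  have key : ∀ T : (Over S)ᵒᵖ, IsIso (f.hom.app T) := by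
    intro T
    rw [isIso_iff_bijective]
    exact h T.unop
  have : IsIso ((sheafToPresheaf _ _).map f) := by
    have : ∀ T, IsIso (((sheafToPresheaf _ _).map f).app T) := key
    exact NatIso.isIso_of_isIso_app _
  exact isIso_of_reflects_iso f (sheafToPresheaf _ _)

/-- Restriction along `g` meeting all orbits fppf locally. -/
structure Slices {R U R' U' : Over S} (s t : R ⟶ U) (s' t' : R' ⟶ U') (g : U' ⟶ U) (r : R' ⟶ R) : Prop where
  sq : IsPullback (prod.lift t' s') r (prod.map g g) (prod.lift t s)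
  surj : ∀ (T : Over S) (x : T ⟶ U), ∃ (T' : Over S) (c : T' ⟶ T) (a : T' ⟶ U') (ρ : T' ⟶ R),
    Cov c ∧ ρ ≫ t = a ≫ g ∧ ρ ≫ s = c ≫ x

variable {R U R' U' R'' U'' : Over S} {s t : R ⟶ U} {s' t' : R' ⟶ U'} {g : U' ⟶ U} {r : R' ⟶ R}
    {s'' t'' : R'' ⟶ U''} {g' : U'' ⟶ U'} {r' : R'' ⟶ R'}

theorem isPullback_congr {C : Type*} [Category* C] {P X Y Z : C} {f f' : P ⟶ X} {g g' : P ⟶ Y} {h h' : X ⟶ Z}
    {k k' : Y ⟶ Z} (sq : IsPullback f g h k) (ef : f = f') (eg : g = g') (eh : h = h') (ek : k = k') :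
    IsPullback f' g' h' k' := by
  subst ef eg eh ek
  exact sq

theorem isPullback_of_points {C : Type*} [Category* C] {P X Y Z : C} {f : P ⟶ X} {g : P ⟶ Y} {h : X ⟶ Z}
    {k : Y ⟶ Z} (w : f ≫ h = g ≫ k)
    (h1 : ∀ (T : C) (a : T ⟶ X) (b : T ⟶ Y), a ≫ h = b ≫ k → ∃ d : T ⟶ P, d ≫ f = a ∧ d ≫ g = b)
    (h2 : ∀ (T : C) (d d' : T ⟶ P), d ≫ f = d' ≫ f → d ≫ g = d' ≫ g → d = d') : IsPullback f g h k :=
  ⟨⟨w⟩, ⟨PullbackCone.IsLimit.mk _ (fun σ => (h1 σ.pt σ.fst σ.snd σ.condition).choose)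
    (fun σ => (h1 σ.pt σ.fst σ.snd σ.condition).choose_spec.1)
    (fun σ => (h1 σ.pt σ.fst σ.snd σ.condition).choose_spec.2)
    (fun σ _ h3 h4 => h2 _ _ _ (h3.trans (h1 σ.pt σ.fst σ.snd σ.condition).choose_spec.1.symm)
      (h4.trans (h1 σ.pt σ.fst σ.snd σ.condition).choose_spec.2.symm))⟩⟩

theorem Slices.comp (h : IsEqvRel s t) (h1 : Slices s t s' t' g r) (h2 : Slices s' t' s'' t'' g' r') :
    Slices s t s'' t'' (g' ≫ g) (r' ≫ r) where
  sq := by
    have e : prod.map g' g' ≫ prod.map g g = prod.map (g' ≫ g) (g' ≫ g) := by rw [prod.map_map]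
    exact isPullback_congr (h2.sq.paste_vert h1.sq.flip.flip) rfl rfl e rfl
  surj := by
    intro T x
    obtain ⟨T₁, c₁, a₁, ρ₁, hc₁, h3, h4⟩ := h1.surj T x
    obtain ⟨T₂, c₂, a₂, ρ₂, hc₂, h5, h6⟩ := h2.surj T₁ a₁
    obtain ⟨ρ, h7, h8⟩ := (h.equivalence T₂).trans (x := a₂ ≫ g' ≫ g) (y := c₂ ≫ a₁ ≫ g) (z := c₂ ≫ c₁ ≫ x)
      ⟨ρ₂ ≫ r, by rw [Category.assoc, ← K594.EqvRel.restrict_left h1.sq, reassoc_of% h5],
        by rw [Category.assoc, ← K594.EqvRel.restrict_right h1.sq, reassoc_of% h6]⟩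
      ⟨c₂ ≫ ρ₁, by rw [Category.assoc, h3], by rw [Category.assoc, h4]⟩
    exact ⟨T₂, c₂ ≫ c₁, a₂, ρ, hc₁.comp hc₂, h7, by rw [h8, Category.assoc]⟩

theorem Slices.exists_iso (h : IsEqvRel s t) (h1 : Slices s t s' t' g r) :
    ∃ ψ : QuotSh.quot Scheme.fppfPrecoverage s' t' ⟶ QuotSh.quot Scheme.fppfPrecoverage s t,
      QuotSh.quotπ Scheme.fppfPrecoverage s' t' ≫ ψ =
        QuotSh.repMap Scheme.fppfPrecoverage g ≫ QuotSh.quotπ Scheme.fppfPrecoverage s t ∧ IsIso ψ := by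
  have hl := K594.EqvRel.restrict_left h1.sq
  have hr := K594.EqvRel.restrict_right h1.sq
  have e0 : ∀ {A B C : Over S} (a : A ⟶ B) (b : B ⟶ C), QuotSh.repMap Scheme.fppfPrecoverage (a ≫ b) =
      QuotSh.repMap Scheme.fppfPrecoverage a ≫ QuotSh.repMap Scheme.fppfPrecoverage b := by
    intro A B C a b
    have h2 := repIso_naturality (S := S) (a ≫ b)
    rw [Functor.map_comp, Category.assoc, repIso_naturality, ← Category.assoc, repIso_naturality, Category.assoc] at h2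
    exact ((cancel_epi _).1 h2).symm
  let ψ : QuotSh.quot Scheme.fppfPrecoverage s' t' ⟶ QuotSh.quot Scheme.fppfPrecoverage s t :=
    coequalizer.desc (QuotSh.repMap Scheme.fppfPrecoverage g ≫ QuotSh.quotπ Scheme.fppfPrecoverage s t) (by
      rw [← Category.assoc, ← Category.assoc, ← e0, ← e0, hl, hr, e0, e0, Category.assoc, Category.assoc,
        QuotSh.quot_condition])
  have hψ : QuotSh.quotπ Scheme.fppfPrecoverage s' t' ≫ ψ =
        QuotSh.repMap Scheme.fppfPrecoverage g ≫ QuotSh.quotπ Scheme.fppfPrecoverage s t := coequalizer.π_desc _ _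
  refine ⟨ψ, hψ, ?_⟩
  have hψ' : qmap s' t' ≫ ψ = (yon S).map g ≫ qmap s t := by
    unfold qmap
    rw [Category.assoc, hψ, ← Category.assoc, ← repIso_naturality, Category.assoc]
  have hinj : ∀ {T : Over S} (x y : (QuotSh.quot Scheme.fppfPrecoverage s' t').obj.obj (op T)),
      ψ.hom.app (op T) x = ψ.hom.app (op T) y → x = y := fun x y hxy =>
    injective_of_restrict h.equivalence (isColimit_qmap s t) (qmap_condition s' t') hψ'
      (fun T a b ρ h3 h4 => by
        obtain ⟨d, h5, h6, -⟩ := K594.EqvRel.exists_restrict_lift h1.sq a b ρ h3 h4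
        exact ⟨d, h5, h6⟩) x y hxy
  apply isIso_of_bijective
  intro T
  refine ⟨fun x y hxy => hinj x y hxy, fun x => ?_⟩
  obtain ⟨T₁, c₁, a₁, hc₁, ha₁⟩ := exists_cov_lift (qmap s t) x
  obtain ⟨T₂, c₂, a₂, ρ, hc₂, h3, h4⟩ := h1.surj T₁ a₁
  have e1 : ψ.hom.app (op T₂) ((qmap s' t').hom.app (op T₂) ⟨a₂⟩) =
      (QuotSh.quot Scheme.fppfPrecoverage s t).obj.map (c₂ ≫ c₁).op x := by
    rw [app_of_comp_eq hψ', ← h3, map_comp_apply, ← ha₁, map_app, ← h4]
    exact (congrArg (fun k : (yon S).obj R ⟶ _ => k.hom.app (op T₂) ⟨ρ⟩) (qmap_condition s t)).symm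
  obtain ⟨ξ, hξ⟩ := (hc₁.comp hc₂).glue _ ((qmap s' t').hom.app (op T₂) ⟨a₂⟩) (by
    intro Z z₁ z₂ hz
    apply hinj
    rw [app_map, app_map, e1]
    exact (map_comp_apply _ _ _ _).symm.trans ((congrArg (fun k =>
      (QuotSh.quot Scheme.fppfPrecoverage s t).obj.map k.op x) hz).trans (map_comp_apply _ _ _ _)))
  refine ⟨ξ, (hc₁.comp hc₂).ext _ ?_⟩
  rw [← app_map, hξ, e1]

/-- Existence of the restriction. -/
theorem exists_restrict (s t : R ⟶ U) (g : U' ⟶ U) : ∃ (R' : Over S) (s' t' : R' ⟶ U') (r : R' ⟶ R),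
    IsPullback (prod.lift t' s') r (prod.map g g) (prod.lift t s) := by
  refine ⟨pullback (prod.map g g) (prod.lift t s), pullback.fst _ _ ≫ prod.snd, pullback.fst _ _ ≫ prod.fst,
    pullback.snd _ _, ?_⟩
  refine isPullback_congr (IsPullback.of_hasPullback (prod.map g g) (prod.lift t s)) ?_ rfl rfl rfl
  apply Limits.prod.hom_ext
  · rw [prod.lift_fst]
  · rw [prod.lift_snd]

/-- `s'` is the base change along `g` of `h : U' ×_{g,U,t} R ⟶ U`. -/
theorem isPullback_h (sq : IsPullback (prod.lift t' s') r (prod.map g g) (prod.lift t s)) {P : Over S}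
    {pU : P ⟶ U'} {pR : P ⟶ R} (sqP : IsPullback pU pR g t) :
    IsPullback (sqP.lift t' r (K594.EqvRel.restrict_left sq)) s' (pR ≫ s) g := by
  apply isPullback_of_points
  · rw [sqP.lift_snd_assoc, K594.EqvRel.restrict_right sq]
  · intro T a b hab
    have h1 : (a ≫ pR) ≫ t = (a ≫ pU) ≫ g := by rw [Category.assoc, Category.assoc, sqP.w]
    have h2 : (a ≫ pR) ≫ s = b ≫ g := by rw [Category.assoc, hab]
    obtain ⟨d, h3, h4, h5⟩ := K594.EqvRel.exists_restrict_lift sq (a ≫ pU) b (a ≫ pR) h1 h2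
    refine ⟨d, ?_, h4⟩
    apply sqP.hom_ext
    · rw [Category.assoc, sqP.lift_fst, h3]
    · rw [Category.assoc, sqP.lift_snd, h5]
  · intro T d d' h1 h2
    apply K594.EqvRel.restrict_hom_ext sq _ h2
    · have := congrArg (· ≫ pR) h1
      simpa only [Category.assoc, sqP.lift_snd] using this
    · have := congrArg (· ≫ pU) h1
      simpa only [Category.assoc, sqP.lift_fst] using this

/-- The restriction along `g` has the same quotient when `h : U' ×_U R ⟶ U` is an fppf cover. -/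
theorem slices_of_h (sq : IsPullback (prod.lift t' s') r (prod.map g g) (prod.lift t s)) {P : Over S}
    {pU : P ⟶ U'} {pR : P ⟶ R} (sqP : IsPullback pU pR g t) (hc : Cov (pR ≫ s)) : Slices s t s' t' g r where
  sq := sq
  surj := by
    intro T x
    obtain ⟨T', c, a, sq', hc'⟩ := hc.exists_baseChange x
    exact ⟨T', c, a ≫ pU, a ≫ pR, hc', by rw [Category.assoc, Category.assoc, sqP.w],
      by rw [Category.assoc, sq'.w]⟩

end K609.Slice
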