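import Groth.Agent.AlgSp.K609.Slice
import Groth.Agent.S1936
import Groth.Agent.Ega43.CMOpen

/-!
# Restriction of a flat equivalence relation to the Cohen–Macaulay locus

* `exists_cm` : for an equivalence relation `s, t` flat and locally of finite presentation there is an open of `U`
  meeting all orbits on which the restricted relation is Cohen–Macaulay.
-/

set_option autoImplicit false
set_option backward.isDefEq.respectTransparency.types false

universe u

open CategoryTheory CategoryTheory.Limits AlgebraicGeometry Opposite AlgSp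

namespace K609.Slice

open K594.Elem K594.Cover K594.Basic K609.QuotOpen

variable {S : Scheme.{u}}

theorem exists_pt {P X Y Z : Scheme.{u}} {f : P ⟶ X} {g : P ⟶ Y} {h : X ⟶ Z} {k : Y ⟶ Z} (sq : IsPullback f g h k)
    (x : X) (y : Y) (e : h x = k y) : ∃ p : P, f p = x ∧ g p = y := by
  obtain ⟨z, hz1, hz2⟩ := Scheme.Pullback.exists_preimage_pullback x y e
  refine ⟨sq.isoPullback.inv z, ?_, ?_⟩
  · rw [← Scheme.Hom.comp_apply, sq.isoPullback_inv_fst, hz1]
  · rw [← Scheme.Hom.comp_apply, sq.isoPullback_inv_snd, hz2]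

theorem prop_symm {R U : Over S} {s t : R ⟶ U} (h : IsEqvRel s t) (P : MorphismProperty Scheme.{u}) [P.RespectsIso]
    (hs : P s.left) : P t.left := by
  obtain ⟨i, hi1, hi2⟩ := K607.Eqv.exists_i h
  have : i ≫ i = 𝟙 _ := K607.Eqv.hom_ext h (by rw [Category.assoc, hi2, hi1, Category.id_comp])
    (by rw [Category.assoc, hi1, hi2, Category.id_comp])
  have : IsIso i := ⟨i, this, this⟩
  rw [← hi1]
  exact (P.cancel_left_of_respectsIso i s.left).2 hs

theorem cm_comp_iff {W X Y : Scheme.{u}} (j : W ⟶ X) [IsOpenImmersion j] (f : X ⟶ Y) (w : W) :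
    Grpd.IsCMAt (j ≫ f) w ↔ Grpd.IsCMAt f (j w) := by
  rw [Groth.Agent.Grpsch.CMFibre.isCMAt_iff, Groth.Agent.Grpsch.CMFibre.isCMAt_iff]
  exact Groth.Agent.Ega43.CMOpen.isCMAt_comp_iff j f w

theorem cm_symm {R U : Over S} {s t : R ⟶ U} (h : IsEqvRel s t) (hs : ∀ r, Grpd.IsCMAt s.left r) (r : R.left) :
    Grpd.IsCMAt t.left r := by
  obtain ⟨i, hi1, hi2⟩ := K607.Eqv.exists_i h
  have : i ≫ i = 𝟙 _ := K607.Eqv.hom_ext h (by rw [Category.assoc, hi2, hi1, Category.id_comp])
    (by rw [Category.assoc, hi1, hi2, Category.id_comp])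
  have : IsIso i := ⟨i, this, this⟩
  rw [← hi1, cm_comp_iff]
  exact hs _

/-- properties of the restricted relation from those of `h` -/
theorem prop_restrict {R U R' U' : Over S} {s t : R ⟶ U} {s' t' : R' ⟶ U'} {g : U' ⟶ U} {r : R' ⟶ R}
    (sq : IsPullback (prod.lift t' s') r (prod.map g g) (prod.lift t s)) {P : Over S}
    {pU : P ⟶ U'} {pR : P ⟶ R} (sqP : IsPullback pU pR g t) (Pr : MorphismProperty Scheme.{u})
    [Pr.IsStableUnderBaseChange] (h : Pr (pR ≫ s).left) : Pr s'.left :=
  Pr.of_isPullback ((isPullback_h sq sqP).map (Over.forget S)) h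

theorem exists_cm {R U : Over S} {s t : R ⟶ U} (h : IsEqvRel s t) [Flat s.left] [LocallyOfFinitePresentation s.left]
    [Flat t.left] [LocallyOfFinitePresentation t.left] :
    ∃ (R' U' : Over S) (s' t' : R' ⟶ U') (g : U' ⟶ U) (r : R' ⟶ R), Slices s t s' t' g r ∧ IsEqvRel s' t' ∧
      Flat s'.left ∧ LocallyOfFinitePresentation s'.left ∧ Flat t'.left ∧ LocallyOfFinitePresentation t'.left ∧
      (∀ x, Grpd.IsCMAt s'.left x) ∧ (∀ x, Grpd.IsCMAt t'.left x) := by
  have i1 : Flat (K607.Eqv.gpd h).s := ‹Flat s.left›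
  have i2 : LocallyOfFinitePresentation (K607.Eqv.gpd h).s := ‹LocallyOfFinitePresentation s.left›
  have i3 : Flat (K607.Eqv.gpd h).t := ‹Flat t.left›
  have i4 : LocallyOfFinitePresentation (K607.Eqv.gpd h).t := ‹LocallyOfFinitePresentation t.left›
  obtain ⟨W, hW1, -, -, hW4⟩ := Groth.Agent.S1936.result S (K607.Eqv.gpd h)
  change U.left.Opens at W
  let U' : Over S := Over.mk (W.ι ≫ U.hom)
  let g : U' ⟶ U := Over.homMk W.ι rfl
  have hg : IsOpenImmersion g.left := inferInstanceAs (IsOpenImmersion W.ι)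
  obtain ⟨R', s', t', r, sq⟩ := exists_restrict s t g
  have sqP := IsPullback.of_hasPullback g t
  have sqP' : IsPullback (pullback.fst g t).left (pullback.snd g t).left g.left t.left := sqP.map (Over.forget S)
  have hj : IsOpenImmersion (pullback.snd g t).left := MorphismProperty.of_isPullback (P := @IsOpenImmersion) sqP' hg
  have hf : Flat (pullback.snd g t ≫ s).left := inferInstanceAs (Flat ((pullback.snd g t).left ≫ s.left))
  have hl : LocallyOfFinitePresentation (pullback.snd g t ≫ s).left :=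
    inferInstanceAs (LocallyOfFinitePresentation ((pullback.snd g t).left ≫ s.left))
  have hsurj : Surjective (pullback.snd g t ≫ s).left := by
    constructor
    intro u
    obtain ⟨r₀, hr₀, hu⟩ := hW4.symm.subset (Set.mem_univ (α := (K607.Eqv.gpd h).U) u)
    obtain ⟨p, -, hp⟩ := exists_pt sqP' ⟨t.left r₀, hr₀⟩ r₀ rfl
    refine ⟨p, ?_⟩
    change ((pullback.snd g t).left ≫ s.left) p = u
    rw [Scheme.Hom.comp_apply, hp]
    exact hu
  have h' := K594.EqvRel.isEqvRel_restrict sq h
  have hs1 : Flat s'.left := prop_restrict sq sqP @Flat hf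
  have hs2 : LocallyOfFinitePresentation s'.left := prop_restrict sq sqP @LocallyOfFinitePresentation hl
  have hcm : ∀ x, Grpd.IsCMAt s'.left x := by
    intro x
    have sqh : IsPullback (sqP.lift t' r (K594.EqvRel.restrict_left sq)).left s'.left (pullback.snd g t ≫ s).left
      g.left := (isPullback_h sq sqP).map (Over.forget S)
    rw [Groth.Agent.S1936.isCMAt_baseChange _ _ _ _ sqh]
    change Grpd.IsCMAt ((pullback.snd g t).left ≫ s.left) _
    rw [cm_comp_iff]
    have e1 : (pullback.snd g t).left ((sqP.lift t' r (K594.EqvRel.restrict_left sq)).left x) = r.left x := by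
      rw [← Scheme.Hom.comp_apply, ← Over.comp_left, sqP.lift_snd]
    rw [e1]
    have e2 : r.left x ∈ ((K607.Eqv.gpd h).t ⁻¹ᵁ W : Set (K607.Eqv.gpd h).R) := by
      change t.left (r.left x) ∈ W
      have e3 : t.left (r.left x) = g.left (t'.left x) := by
        rw [← Scheme.Hom.comp_apply, ← Scheme.Hom.comp_apply, ← Over.comp_left, ← Over.comp_left,
          K594.EqvRel.restrict_left sq]
      rw [e3]
      exact (t'.left x).2
    rw [hW1] at e2
    exact e2
  exact ⟨R', U', s', t', g, r, slices_of_h sq sqP ⟨hf, hl, hsurj⟩, h', hs1, hs2, prop_symm h' @Flat hs1,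
    prop_symm h' @LocallyOfFinitePresentation hs2, hcm, cm_symm h' hcm⟩

end K609.Slice
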