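import Groth.Agent.AlgSp.K609.SliceCM
import Groth.Agent.S9341

/-!
# Slicing of flat equivalence relations

* `exists_lqf` : given slices through all finite type points, restriction to a locally quasi-finite relation.
* `exists_slice` : the slicing theorem, from the existence of slices (`H7508`).
-/

set_option autoImplicit false
set_option backward.isDefEq.respectTransparency.types false

universe u

open CategoryTheory CategoryTheory.Limits AlgebraicGeometry Opposite AlgSp

namespace K609.Slice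

open K594.Elem K594.Cover K594.Basic K609.QuotOpen

variable {S : Scheme.{u}}

theorem of_openImmersion_family (P : MorphismProperty Scheme.{u}) [IsZariskiLocalAtSource P] {X Y : Scheme.{u}}
    {ι : Type u} (V : ι → Scheme.{u}) (j : ∀ i, V i ⟶ X) [∀ i, IsOpenImmersion (j i)]
    (hj : ∀ x : X, ∃ (i : ι) (v : V i), j i v = x) (f : X ⟶ Y) (h : ∀ i, P (j i ≫ f)) : P f := by
  refine IsZariskiLocalAtSource.of_iSup_eq_top (fun i => (j i).opensRange) ?_ fun i => ?_
  · rw [eq_top_iff]
    intro x _
    obtain ⟨i, v, hv⟩ := hj x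
    exact TopologicalSpace.Opens.mem_iSup.2 ⟨i, v, hv⟩
  · have e : (j i).opensRange.ι ≫ f = (j i).isoOpensRange.inv ≫ j i ≫ f := by
      rw [← Category.assoc, Scheme.Hom.isoOpensRange_inv_comp]
    rw [e]
    exact (P.cancel_left_of_respectsIso _ _).2 (h i)

/-- Given slices through all finite type points, there is a restriction to a locally quasi-finite relation. -/
theorem exists_lqf {R U : Over S} {s t : R ⟶ U} (h : IsEqvRel s t)
    (H : ∀ u : U.left, LocallyOfFiniteType (U.left.fromSpecResidueField u) →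
      ∃ (V : Scheme.{u}) (g : V ⟶ U.left) (v : V), g v = u ∧ Flat (pullback.snd g t.left ≫ s.left) ∧
        LocallyOfFinitePresentation (pullback.snd g t.left ≫ s.left) ∧
        LocallyQuasiFinite (pullback.snd g t.left ≫ s.left)) :
    ∃ (R' U' : Over S) (s' t' : R' ⟶ U') (g : U' ⟶ U) (r : R' ⟶ R), Slices s t s' t' g r ∧ IsEqvRel s' t' ∧
      Flat s'.left ∧ LocallyOfFinitePresentation s'.left ∧ LocallyQuasiFinite s'.left ∧
      Flat t'.left ∧ LocallyOfFinitePresentation t'.left ∧ LocallyQuasiFinite t'.left := by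
  let ι : Type u := {u : U.left // LocallyOfFiniteType (U.left.fromSpecResidueField u)}
  choose V g₀ v hv hf hl hq using fun i : ι => H i.1 i.2
  let V' : ι → Over S := fun i => Over.mk (g₀ i ≫ U.hom)
  let gV : ∀ i, V' i ⟶ U := fun i => Over.homMk (g₀ i) rfl
  let g : sig V' ⟶ U := sigDesc gV
  obtain ⟨R', s', t', r, sq⟩ := exists_restrict s t g
  have sqP := IsPullback.of_hasPullback g t
  have sqP' : IsPullback (pullback.fst g t).left (pullback.snd g t).left g.left t.left := sqP.map (Over.forget S)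
  -- the pieces
  let Q : ι → Over S := fun i => pullback (gV i) t
  let k : ∀ i, Q i ⟶ pullback g t := fun i => pullback.lift (pullback.fst _ _ ≫ sigι V' i) (pullback.snd _ _) (by
    rw [Category.assoc, sigι_desc, pullback.condition])
  have hk : ∀ i, k i ≫ pullback.snd g t = pullback.snd (gV i) t := fun i => pullback.lift_snd _ _ _
  have hk' : ∀ i, k i ≫ pullback.fst g t = pullback.fst (gV i) t ≫ sigι V' i := fun i => pullback.lift_fst _ _ _
  have sqk : ∀ i, IsPullback (pullback.fst (gV i) t) (k i) (sigι V' i) (pullback.fst g t) := by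
    intro i
    refine IsPullback.of_bot ?_ (hk' i).symm sqP
    exact isPullback_congr (IsPullback.of_hasPullback (gV i) t) rfl (hk i).symm (sigι_desc gV i).symm rfl
  have hko : ∀ i, IsOpenImmersion (k i).left := fun i =>
    MorphismProperty.of_isPullback (P := @IsOpenImmersion) ((sqk i).map (Over.forget S))
      (inferInstanceAs (IsOpenImmersion (Sigma.ι (fun i => (V' i).left) i)))
  have hcov : ∀ x : (pullback g t).left, ∃ (i : ι) (v : (Q i).left), (k i).left v = x := by
    intro x
    obtain ⟨i, w, hw⟩ := sig_surj V' ((pullback.fst g t).left x)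
    obtain ⟨z, -, hz⟩ := exists_pt ((sqk i).map (Over.forget S)) w x hw
    exact ⟨i, z, hz⟩
  have key : ∀ (P : MorphismProperty Scheme.{u}) [IsZariskiLocalAtSource P] [P.RespectsIso],
      (∀ i, P (pullback.snd (g₀ i) t.left ≫ s.left)) → P (pullback.snd g t ≫ s).left := by
    intro P _ _ hP
    refine of_openImmersion_family P (fun i => (Q i).left) (fun i => (k i).left) hcov _ fun i => ?_
    have sqi : IsPullback (pullback.fst (gV i) t).left (pullback.snd (gV i) t).left (g₀ i) t.left :=
      (IsPullback.of_hasPullback (gV i) t).map (Over.forget S)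
    have e1 : (k i).left ≫ (pullback.snd g t ≫ s).left =
        sqi.isoPullback.hom ≫ pullback.snd (g₀ i) t.left ≫ s.left := by
      rw [← Category.assoc sqi.isoPullback.hom, sqi.isoPullback_hom_snd, ← Over.comp_left, ← Category.assoc, hk,
        Over.comp_left]
    rw [e1]
    exact (P.cancel_left_of_respectsIso _ _).2 (hP i)
  have hf' : Flat (pullback.snd g t ≫ s).left := key @Flat hf
  have hl' : LocallyOfFinitePresentation (pullback.snd g t ≫ s).left := key @LocallyOfFinitePresentation hl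
  have hq' : LocallyQuasiFinite (pullback.snd g t ≫ s).left := key @LocallyQuasiFinite hq
  have hsurj : Surjective (pullback.snd g t ≫ s).left := by
    constructor
    by_contra hcon
    have hopen : IsOpen (Set.range (pullback.snd g t ≫ s).left) := (pullback.snd g t ≫ s).left.isOpenMap.isOpen_range
    have hne : ((Set.range (pullback.snd g t ≫ s).left)ᶜ).Nonempty := by
      rw [Set.nonempty_compl]
      exact fun h0 => hcon (Set.range_eq_univ.1 h0)
    obtain ⟨z, hz, hz'⟩ := Groth.Agent.S9341.aux U.left _ hopen.isClosed_compl.isLocallyClosed hne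
    obtain ⟨e, he1, he2⟩ := K607.Eqv.exists_e h
    let i : ι := ⟨z, hz'⟩
    have e1 : g.left ((sigι V' i).left (v i)) = t.left (e z) := by
      rw [← Scheme.Hom.comp_apply, ← Over.comp_left, sigι_desc, ← Scheme.Hom.comp_apply, he2]
      exact hv i
    obtain ⟨p, -, hp⟩ := exists_pt sqP' _ _ e1
    refine hz ⟨p, ?_⟩
    change ((pullback.snd g t).left ≫ s.left) p = z
    rw [Scheme.Hom.comp_apply, hp, ← Scheme.Hom.comp_apply, he1]
    rfl
  have h' := K594.EqvRel.isEqvRel_restrict sq h
  have hs1 : Flat s'.left := prop_restrict sq sqP @Flat hf'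
  have hs2 : LocallyOfFinitePresentation s'.left := prop_restrict sq sqP @LocallyOfFinitePresentation hl'
  have hs3 : LocallyQuasiFinite s'.left := prop_restrict sq sqP @LocallyQuasiFinite hq'
  exact ⟨R', sig V', s', t', g, r, slices_of_h sq sqP ⟨hf', hl', hsurj⟩, h', hs1, hs2, hs3, prop_symm h' @Flat hs1,
    prop_symm h' @LocallyOfFinitePresentation hs2, prop_symm h' @LocallyQuasiFinite hs3⟩

/-- The stabilizer of an equivalence relation is trivial. -/
theorem isIso_stabilizerToU {R U : Over S} {s t : R ⟶ U} (h : IsEqvRel s t) :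
    IsIso (K607.Eqv.gpd h).stabilizerToU := by
  have h1 := K607.Eqv.mono_j h
  have h2 : Mono (K607.Eqv.gpd h).stabilizerToU :=
    inferInstanceAs (Mono (pullback.snd (K607.Eqv.gpd h).j (K607.Eqv.gpd h).diag))
  have h3 : (K607.Eqv.gpd h).eStab ≫ (K607.Eqv.gpd h).stabilizerToU = 𝟙 _ := pullback.lift_snd _ _ _
  refine ⟨(K607.Eqv.gpd h).eStab, ?_, h3⟩
  rw [← cancel_mono (K607.Eqv.gpd h).stabilizerToU, Category.assoc, h3, Category.comp_id, Category.id_comp]

/-- The slicing theorem for the Cohen–Macaulay case, in the form needed here (a consequence of S7508). -/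
def H7508 : Prop :=
  ∀ (S : Scheme.{u}) (G : Grpd.GroupoidScheme S) [LocallyOfFinitePresentation G.s] [LocallyOfFinitePresentation G.t]
    (_ : ∀ r : G.R, Grpd.IsCMAt G.s r) (_ : ∀ r : G.R, Grpd.IsCMAt G.t r) [LocallyOfFiniteType G.stabilizerToU]
    [LocallyQuasiFinite G.stabilizerToU] (u : G.U) (_ : LocallyOfFiniteType (G.U.fromSpecResidueField u)),
    ∃ (U' : Scheme.{u}) (g : U' ⟶ G.U) (u' : U'), g u' = u ∧ Flat (pullback.snd g G.t ≫ G.s) ∧
      LocallyOfFinitePresentation (pullback.snd g G.t ≫ G.s) ∧ LocallyQuasiFinite (pullback.snd g G.t ≫ G.s)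

/-- Slicing of flat equivalence relations. -/
theorem exists_slice (H : H7508.{u}) {R U : Over S} (s t : R ⟶ U) (h : IsEqvRel s t) [Flat s.left]
    [LocallyOfFinitePresentation s.left] [Flat t.left] [LocallyOfFinitePresentation t.left] :
    ∃ (R' U' : Over S) (s' t' : R' ⟶ U') (g : U' ⟶ U) (r : R' ⟶ R), Slices s t s' t' g r ∧ IsEqvRel s' t' ∧
      Flat s'.left ∧ LocallyOfFinitePresentation s'.left ∧ LocallyQuasiFinite s'.left ∧
      Flat t'.left ∧ LocallyOfFinitePresentation t'.left ∧ LocallyQuasiFinite t'.left := by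
  obtain ⟨R₁, U₁, s₁, t₁, g₁, r₁, hsl, h₁, hs₁, hs₂, ht₁, ht₂, hcs, hct⟩ := exists_cm h
  obtain ⟨R₂, U₂, s₂, t₂, g₂, r₂, hsl₂, h₂, H1, H2, H3, H4, H5, H6⟩ := exists_lqf h₁ (by
    intro u hu
    have i1 : LocallyOfFinitePresentation (K607.Eqv.gpd h₁).s := hs₂
    have i2 : LocallyOfFinitePresentation (K607.Eqv.gpd h₁).t := ht₂
    have i3 := isIso_stabilizerToU h₁
    exact H S (K607.Eqv.gpd h₁) hcs hct u hu)
  exact ⟨R₂, U₂, s₂, t₂, g₂ ≫ g₁, r₂ ≫ r₁, hsl.comp h hsl₂, h₂, H1, H2, H3, H4, H5, H6⟩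

/-- The form of the milestone. -/
theorem exists_slice_isEqvRel (H : H7508.{u}) {R U : Over S} (s t : R ⟶ U)
    (h : AlgSp.IsEqvRel s t) [Flat s.left] [LocallyOfFinitePresentation s.left]
    [Flat t.left] [LocallyOfFinitePresentation t.left] :
    ∃ (R' U' : Over S) (s' t' : R' ⟶ U') (g : U' ⟶ U) (r : R' ⟶ R)
      (ψ : QuotSh.quot Scheme.fppfPrecoverage s' t' ⟶ QuotSh.quot Scheme.fppfPrecoverage s t),
      AlgSp.IsEqvRel s' t' ∧ r ≫ s = s' ≫ g ∧ r ≫ t = t' ≫ g ∧
      Flat s'.left ∧ LocallyOfFinitePresentation s'.left ∧ LocallyQuasiFinite s'.left ∧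
      Flat t'.left ∧ LocallyOfFinitePresentation t'.left ∧ LocallyQuasiFinite t'.left ∧
      QuotSh.quotπ Scheme.fppfPrecoverage s' t' ≫ ψ =
        QuotSh.repMap Scheme.fppfPrecoverage g ≫ QuotSh.quotπ Scheme.fppfPrecoverage s t ∧ IsIso ψ := by
  obtain ⟨R', U', s', t', g, r, hsl, h', H1, H2, H3, H4, H5, H6⟩ := exists_slice H s t h
  obtain ⟨ψ, hψ, hi⟩ := hsl.exists_iso h
  exact ⟨R', U', s', t', g, r, ψ, h', (K594.EqvRel.restrict_right hsl.sq).symm,
    (K594.EqvRel.restrict_left hsl.sq).symm, H1, H2, H3, H4, H5, H6, hψ, hi⟩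

end K609.Slice
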