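import Groth.Agent.AlgSp.K609.SliceLqf
import Groth.Agent.S7508

/-!
# Slicing of flat equivalence relations, unconditional

`exists_slice'` : a flat lfp equivalence relation restricts to a flat lfp locally quasi-finite one with the same
fppf quotient.
-/

set_option autoImplicit false
set_option backward.isDefEq.respectTransparency.types false

universe u

open CategoryTheory CategoryTheory.Limits AlgebraicGeometry Opposite AlgSp

namespace K609.Slice

theorem h7508 : H7508.{u} := by
  intro S G _ _ hs ht _ _ u hu
  obtain ⟨U', _, g, u', _, _, h, ⟨a, b, _, c⟩, _⟩ := Groth.Agent.S7508.result S G hs ht u hu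
  exact ⟨U', g, u', h, a, b, c⟩

variable {S : Scheme.{u}}

/-- Slicing of flat equivalence relations. -/
theorem exists_slice' {R U : Over S} (s t : R ⟶ U) (h : IsEqvRel s t) [Flat s.left]
    [LocallyOfFinitePresentation s.left] [Flat t.left] [LocallyOfFinitePresentation t.left] :
    ∃ (R' U' : Over S) (s' t' : R' ⟶ U') (g : U' ⟶ U) (r : R' ⟶ R), Slices s t s' t' g r ∧ IsEqvRel s' t' ∧
      Flat s'.left ∧ LocallyOfFinitePresentation s'.left ∧ LocallyQuasiFinite s'.left ∧
      Flat t'.left ∧ LocallyOfFinitePresentation t'.left ∧ LocallyQuasiFinite t'.left :=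
  exists_slice h7508 s t h

end K609.Slice
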