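import Groth.Agent.S0389
import Mathlib.FieldTheory.IsAlgClosed.AlgebraicClosure
import Mathlib.RingTheory.IntegralClosure.IntegrallyClosed
import Mathlib.RingTheory.Flat.Localization

/-!
# Subfields of finitely generated domains

* `isAlgebraic_of_subfield`: a field inside a domain of finite type over a field `k` is algebraic over `k`.
* `eq_of_comp_eq`: two homomorphisms `s, t : k → A` from a field to a domain, `s` of finite type, which agree
  at a point of `A`, are equal.
* `sub_mem_of_le`: the version for two comparable primes of a `k`-algebra of finite type.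
-/

set_option autoImplicit false

universe u

open Polynomial TensorProduct

namespace K609.SubField

/-- An algebraically closed field contains infinitely many elements integral over `ℤ`. -/
theorem infinite_integralClosure (Ω : Type*) [Field Ω] [IsAlgClosed Ω] : Infinite (integralClosure ℤ Ω) := by
  by_contra hcon
  rw [not_infinite_iff_finite] at hcon
  have := Fintype.ofFinite (integralClosure ℤ Ω)
  let P : (integralClosure ℤ Ω)[X] := (∏ d : integralClosure ℤ Ω, (X - C d)) + 1
  have hm : (∏ d : integralClosure ℤ Ω, (X - C d : (integralClosure ℤ Ω)[X])).Monic :=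
    monic_prod_of_monic _ _ fun d _ => monic_X_sub_C d
  have hd : 0 < (∏ d : integralClosure ℤ Ω, (X - C d : (integralClosure ℤ Ω)[X])).degree := by
    rw [degree_prod]
    simp only [degree_X_sub_C, Finset.sum_const, Finset.card_univ, nsmul_eq_mul, mul_one]
    exact_mod_cast Fintype.card_pos (α := integralClosure ℤ Ω)
  have hP : P.Monic := hm.add_of_left (by rw [degree_one]; exact hd)
  have hPd : P.degree ≠ 0 := by
    rw [degree_add_eq_left_of_degree_lt (by rw [degree_one]; exact hd)]
    exact hd.ne'
  obtain ⟨β, hβ⟩ := IsAlgClosed.exists_root (P.map (algebraMap (integralClosure ℤ Ω) Ω)) (by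
    rw [hP.degree_map]; exact hPd)
  have hβ1 : eval₂ (algebraMap (integralClosure ℤ Ω) Ω) β P = 0 := by rwa [IsRoot.def, eval_map] at hβ
  have hβ' : IsIntegral (integralClosure ℤ Ω) β := ⟨P, hP, hβ1⟩
  have hβ2 : IsIntegral ℤ β := isIntegral_trans (A := integralClosure ℤ Ω) β hβ'
  let d₀ : integralClosure ℤ Ω := ⟨β, hβ2⟩
  have hβ3 : aeval d₀ P = 0 := by
    apply FaithfulSMul.algebraMap_injective (integralClosure ℤ Ω) Ω
    rw [map_zero, ← aeval_algebraMap_apply]
    exact hβ1
  have h2 : aeval d₀ P = 1 := by
    have h3 : aeval d₀ (∏ d : integralClosure ℤ Ω, (X - C d)) = 0 := by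
      rw [map_prod]
      exact Finset.prod_eq_zero (Finset.mem_univ d₀) (by simp)
    simp only [P, map_add, h3, map_one, zero_add]
  rw [h2] at hβ3
  exact one_ne_zero hβ3

/-- If `u ∈ R` acts invertibly on a nonzero free module it is a unit. -/
theorem isUnit_of_free {L F : Type*} [CommRing L] [AddCommGroup F] [Module L F] [Module.Free L F] [Nontrivial F]
    (g : L) (h : Function.Surjective fun y : F => g • y) : IsUnit g := by
  obtain ⟨⟨ι, b⟩⟩ := Module.Free.exists_basis (R := L) (M := F)
  have hne : Nonempty ι := by
    by_contra hι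
    rw [not_nonempty_iff] at hι
    exact not_subsingleton F (b.repr.toEquiv.subsingleton)
  obtain ⟨i⟩ := hne
  obtain ⟨y, hy⟩ := h (b i)
  have h1 := congrArg (fun z => b.repr z i) hy
  simp only [map_smul, Finsupp.smul_apply, Module.Basis.repr_self, Finsupp.single_eq_same, smul_eq_mul] at h1
  exact IsUnit.of_mul_eq_one _ h1

/-- A field inside a domain of finite type over a field `k` is algebraic over `k`. -/
theorem isAlgebraic_of_subfield {k K A : Type u} [Field k] [Field K] [CommRing A] [IsDomain A] [Algebra k A]
    [Algebra.FiniteType k A] (t : K →+* A) (x : K) : IsAlgebraic k (t x) := by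
  by_contra htr
  have htr' : Transcendental k (t x) := htr
  let f := t x
  algebraize [(aeval (R := k) f).toRingHom]
  have : IsScalarTower k k[X] A := IsScalarTower.of_algebraMap_eq fun c => by
    change _ = aeval f (C c)
    simp
  have hft : Algebra.FiniteType k[X] A := Algebra.FiniteType.of_restrictScalars_finiteType k k[X] A
  obtain ⟨h, hh, -, hfree, -⟩ := Groth.Agent.S0389.result (R := k[X]) (S := A) (M := A)
  have hinj : Function.Injective (Algebra.linearMap k[X] A) := transcendental_iff_injective.1 htr'
  have hflat : Module.Flat k[X] (Localization.Away h) := IsLocalization.flat _ (Submonoid.powers h)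
  have hnt : Nontrivial (Localization.Away h ⊗[k[X]] A) := by
    have h1 : Function.Injective ((Algebra.linearMap k[X] A).lTensor (Localization.Away h)) :=
      Module.Flat.lTensor_preserves_injective_linearMap _ hinj
    have h2 : Nontrivial (Localization.Away h ⊗[k[X]] k[X]) := by
      have : Nontrivial (Localization.Away h) := by
        exact (IsLocalization.injective (Localization.Away h)
          (powers_le_nonZeroDivisors_of_noZeroDivisors hh)).nontrivial
      exact (TensorProduct.rid k[X] (Localization.Away h)).toEquiv.nontrivial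
    exact h1.nontrivial
  -- units
  have key : ∀ g : k[X], IsUnit (aeval f g) → ∃ n, g ∣ h ^ n := by
    intro g hg
    rw [← IsLocalization.Away.algebraMap_isUnit_iff (S := Localization.Away h)]
    apply isUnit_of_free (F := Localization.Away h ⊗[k[X]] A)
    intro z
    obtain ⟨w, hw⟩ := hg
    induction z using TensorProduct.induction_on with
    | zero => exact ⟨0, smul_zero _⟩
    | add a b ha hb =>
      obtain ⟨a', rfl⟩ := ha
      obtain ⟨b', rfl⟩ := hb
      exact ⟨a' + b', smul_add _ _ _⟩
    | tmul a b =>
      refine ⟨a ⊗ₜ (w⁻¹.1 * b), ?_⟩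
      change algebraMap _ _ g • _ = _
      rw [algebraMap_smul, ← TensorProduct.tmul_smul, Algebra.smul_def]
      have e : algebraMap k[X] A g = w.1 := hw.symm
      rw [e, ← mul_assoc, Units.mul_inv, one_mul]
  -- an algebraic integer which is not a root of `h`
  classical
  let Ω := AlgebraicClosure k
  have := infinite_integralClosure Ω
  have hinf : (integralClosure ℤ Ω : Set Ω).Infinite := Set.infinite_coe_iff.1 this
  have hh' : h.map (algebraMap k Ω) ≠ 0 := (Polynomial.map_ne_zero_iff (algebraMap k Ω).injective).2 hh
  obtain ⟨α, hα, hα'⟩ := hinf.exists_notMem_finset (h.map (algebraMap k Ω)).roots.toFinset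
  have hα2 : aeval α h ≠ 0 := by
    intro h0
    apply hα'
    rw [Multiset.mem_toFinset, mem_roots hh', IsRoot.def, eval_map]
    exact h0
  obtain ⟨g, hg, hgα⟩ : IsIntegral ℤ α := hα
  have hg1 : g.map (Int.castRingHom k) ≠ 0 := (hg.map _).ne_zero
  have e1 : aeval f (g.map (Int.castRingHom k)) = t (eval₂ (Int.castRingHom K) x g) := by
    rw [hom_eval₂, aeval_def, eval₂_map]
    congr 1
    exact RingHom.ext_int _ _
  have e2 : aeval f (g.map (Int.castRingHom k)) ≠ 0 := by
    intro h0
    exact hg1 (hinj (by rw [map_zero]; exact h0))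
  have e3 : IsUnit (aeval f (g.map (Int.castRingHom k))) := by
    rw [e1] at e2 ⊢
    exact (IsUnit.mk0 _ fun h0 => e2 (by rw [h0, map_zero])).map t
  obtain ⟨n, c, hc⟩ := key _ e3
  apply hα2
  have e4 : aeval α (h ^ n) = 0 := by
    rw [hc, map_mul, aeval_def, eval₂_map]
    have : (algebraMap k Ω).comp (Int.castRingHom k) = algebraMap ℤ Ω := RingHom.ext_int _ _
    rw [this, hgα, zero_mul]
  rw [map_pow] at e4
  exact eq_zero_of_pow_eq_zero e4

/-- Two homomorphisms `s, t : k → A` from a field to a domain, `s` of finite type, which agree at a point of `A`,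
are equal. -/
theorem eq_of_comp_eq {k A κ : Type u} [Field k] [CommRing A] [IsDomain A] [CommRing κ] [Nontrivial κ] (s t : k →+* A)
    (hs : s.FiniteType) (v : A →+* κ) (h : v.comp s = v.comp t) : s = t := by
  algebraize [s]
  ext x
  have h1 : IsAlgebraic k (t x) := isAlgebraic_of_subfield t x
  have h2 : IsIntegral k (t x) := h1.isIntegral
  have h3 := minpoly.irreducible h2
  have h4 : (minpoly k (t x)).IsRoot x := by
    have h5 : v (aeval (t x) (minpoly k (t x))) = 0 := by rw [minpoly.aeval, map_zero]
    rw [aeval_def, hom_eval₂] at h5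
    have h6 : v (t x) = v (algebraMap k A x) := (congrArg (fun φ => φ x) h).symm
    have h7 : (v.comp (algebraMap k A)) (eval x (minpoly k (t x))) = 0 := by
      rw [← h5, h6, ← eval₂_at_apply]
      rfl
    rw [IsRoot.def]
    exact (v.comp (algebraMap k A)).injective (by rw [h7, map_zero])
  have h8 : (minpoly k (t x)).degree = 1 := degree_eq_one_of_irreducible_of_root h3 h4
  obtain ⟨y, hy⟩ := minpoly.degree_eq_one_iff.1 h8
  have h9 : (v.comp s) y = (v.comp s) x := by
    have e1 : v (s y) = v (t x) := congrArg v hy
    have e2 : v (s x) = v (t x) := congrArg (fun φ => φ x) h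
    exact e1.trans e2.symm
  have h10 : y = x := (v.comp s).injective h9
  rw [← h10]
  exact hy.trans (by rw [h10])

/-- The version for two comparable primes of a `k`-algebra of finite type. -/
theorem sub_mem_of_le {k R : Type u} [Field k] [CommRing R] (s t : k →+* R) (hs : s.FiniteType) (P q : Ideal R)
    [P.IsPrime] [q.IsPrime] (hPq : P ≤ q) (h : ∀ x, s x - t x ∈ q) (x : k) : s x - t x ∈ P := by
  have hs' : ((Ideal.Quotient.mk P).comp s).FiniteType :=
    RingHom.FiniteType.comp (RingHom.FiniteType.of_surjective _ Ideal.Quotient.mk_surjective) hs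
  have h1 : (Ideal.Quotient.factor hPq).comp ((Ideal.Quotient.mk P).comp s) =
      (Ideal.Quotient.factor hPq).comp ((Ideal.Quotient.mk P).comp t) := by
    ext y
    simp only [RingHom.comp_apply, Ideal.Quotient.factor_mk]
    exact Ideal.Quotient.eq.2 (h y)
  have h2 := eq_of_comp_eq _ _ hs' _ h1
  exact Ideal.Quotient.eq.1 (congrArg (fun φ => φ x) h2)

end K609.SubField
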