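import Groth.Agent.AlgSp.K609.GpdDim
import Groth.Agent.AlgSp.K609.SubField
import Groth.Prelude.Def_AlgSpGpd

/-!
# Dimension of the stabilizer of a groupoid over a field

* `repWith_stabilizerι`: the stabilizer is a closed subspace of `R` when `U = Spec k`.
* `dim_le_of_isClosedImmersion`.
* `exists_notMem_of_forall_le`.
* `dim_R_eq_dim_stabilizer`.
-/

set_option autoImplicit false
set_option backward.isDefEq.respectTransparency.types false

universe u

open CategoryTheory CategoryTheory.Limits AlgebraicGeometry Opposite AlgSp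

namespace K609.StabDim

open K609.GpdDim K616.Inv

/-! ### Algebra -/

/-- A closed subset of a Noetherian spectrum containing all generizations of a point is a neighbourhood of it. -/
theorem exists_notMem_of_forall_le {R : Type u} [CommRing R] [IsNoetherianRing R] (q I : Ideal R) [q.IsPrime]
    (h : ∀ (P : Ideal R), P.IsPrime → P ≤ q → I ≤ P) : ∃ f ∉ q, ∀ (p : Ideal R), p.IsPrime → f ∉ p → I ≤ p := by
  classical
  have hfin := minimalPrimes.finite_of_isNoetherianRing R
  let Z : Finset (Ideal R) := hfin.toFinset.filter (fun P => ¬ P ≤ q)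
  have h1 : ∀ P : Ideal R, ∃ g : R, ¬ P ≤ q → g ∈ P ∧ g ∉ q := by
    intro P
    by_cases hP : P ≤ q
    · exact ⟨0, fun h => absurd hP h⟩
    · obtain ⟨g, hg, hg'⟩ := Set.not_subset.1 hP
      exact ⟨g, fun _ => ⟨hg, hg'⟩⟩
  choose g hg using h1
  refine ⟨∏ P ∈ Z, g P, ?_, ?_⟩
  · intro h2
    obtain ⟨P, hP, hPq⟩ := (Ideal.IsPrime.prod_mem_iff).1 h2
    exact (hg P (Finset.mem_filter.1 hP).2).2 hPq
  · intro p hp hfp
    obtain ⟨P, hP, hPp⟩ := Ideal.exists_minimalPrimes_le (bot_le : (⊥ : Ideal R) ≤ p)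
    have hP' : P.IsPrime := hP.1.1
    by_cases hPq : P ≤ q
    · exact (h P hP' hPq).trans hPp
    · exfalso
      apply hfp
      have hmem : P ∈ Z := Finset.mem_filter.2 ⟨hfin.mem_toFinset.2 hP, hPq⟩
      exact hPp (Ideal.IsPrime.prod_mem_iff.2 ⟨P, hmem, (hg P hPq).1⟩)

/-! ### Dimension and closed immersions -/

variable {S : Scheme.{u}}

theorem localDim_le_of_isInducing {X Y : Type*} [TopologicalSpace X] [TopologicalSpace Y] {f : X → Y}
    (hf : Topology.IsInducing f) (x : X) : FlatMor.localDim X x ≤ FlatMor.localDim Y (f x) := by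
  unfold FlatMor.localDim
  refine le_iInf fun O => ?_
  let O' : TopologicalSpace.Opens X := ⟨f ⁻¹' O.1, O.1.isOpen.preimage hf.continuous⟩
  refine (iInf_le _ (⟨O', O.2⟩ : {U : TopologicalSpace.Opens X // x ∈ U})).trans ?_
  have h1 : Topology.IsInducing (Set.MapsTo.restrict f (f ⁻¹' (O.1 : Set Y)) O.1 fun _ h => h) :=
    Topology.IsInducing.of_comp (hf.continuous.restrict _) continuous_subtype_val
      (hf.comp Topology.IsInducing.subtypeVal)
  exact h1.topologicalKrullDim_le

theorem topologicalKrullDim_le_dim {F : Sp S} {U : Over S} (a : (yon S).obj U ⟶ F) (ha : RepWith @Etale a) :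
    topologicalKrullDim ↥U.left ≤ AlgSp.dim F :=
  le_iSup_of_le U (le_iSup_of_le a (le_iSup_of_le ha le_rfl))

theorem localDim_le_topologicalKrullDim {X : Type u} [TopologicalSpace X] (x : X) :
    FlatMor.localDim X x ≤ topologicalKrullDim X := by
  rw [Groth.Agent.S5792.result]
  exact le_iSup (fun x => FlatMor.localDim X x) x

/-- A closed subspace has at most the dimension of the space. -/
theorem dim_le_of_isClosedImmersion {F R : Sp S} (hR : IsAlgSpace R) {i : F ⟶ R} (hi : RepWith @IsClosedImmersion i) :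
    AlgSp.dim F ≤ AlgSp.dim R := by
  rw [dim_eq_iSup F]
  refine iSup_le fun W => iSup_le fun b => iSup_le fun hb => iSup_le fun w => ?_
  obtain ⟨V, a, v, ha, hv⟩ := exists_chart hR (Points.map i (Points.ofPt b w))
  have sq := hi.rep.isPullback a
  have hfst : RepWith @Etale (hi.rep.fst a) := MorphismProperty.of_isPullback (P := RepWith @Etale) sq.flip ha
  have hsnd : IsClosedImmersion (hi.rep.snd a).left := hi.property_snd a
  have h1 : Points.map i (Points.ofPt b w) = Points.map a (Points.ofScheme V v) := by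
    rw [← hv]
    exact Points.ofPt_eq_map_ofScheme a v
  obtain ⟨z, hz1, hz2⟩ := K609.Points.exists_of_isPullback sq (Points.ofPt b w) (Points.ofScheme V v) h1
  obtain ⟨z, rfl⟩ := K609.Points.ofScheme_surjective _ z
  rw [K609.Points.map_yon_map_ofScheme] at hz2
  have hz3 := K609.Points.ofScheme_injective _ hz2
  have h2 := (hasAt_iff (K616.DimInv.etInvAt_localDim (fun c => c = FlatMor.localDim ↥W.left w)) b hb w).2 rfl
  rw [← hz1, ← Points.ofPt_eq_map_ofScheme, 
    hasAt_iff (K616.DimInv.etInvAt_localDim (fun c => c = FlatMor.localDim ↥W.left w)) _ hfst] at h2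
  rw [← h2]
  refine (localDim_le_of_isInducing (hi.rep.snd a).left.isEmbedding.isInducing z).trans ?_
  exact (localDim_le_topologicalKrullDim _).trans (topologicalKrullDim_le_dim a ha)

/-! ### The stabilizer as a closed subspace -/

section Stab

variable {B : Sp S} (G : GroupoidSp B)

theorem stabilizerι_t : G.stabilizerι ≫ G.t = G.stabilizerι ≫ G.s := by
  have h : G.stabilizerι ≫ G.j = G.stabilizerToU ≫ G.diag := pullback.condition
  have h1 := congrArg (· ≫ pullback.fst G.pU G.pU) h
  have h2 := congrArg (· ≫ pullback.snd G.pU G.pU) h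
  simp only [Category.assoc, GroupoidSp.j_fst, GroupoidSp.j_snd] at h1 h2
  rw [h1, h2, GroupoidSp.diag, pullback.lift_fst, pullback.lift_snd]

instance mono_stabilizerι : Mono G.stabilizerι := by
  have h : Mono G.diag := by
    have : Mono (G.diag ≫ pullback.fst G.pU G.pU) := by
      rw [GroupoidSp.diag, pullback.lift_fst]
      infer_instance
    exact mono_of_mono G.diag (pullback.fst G.pU G.pU)
  exact inferInstanceAs (Mono (pullback.fst G.j G.diag))

theorem exists_lift_stabilizer {T : Sp S} (r : T ⟶ G.R) (h : r ≫ G.t = r ≫ G.s) :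
    ∃ l : T ⟶ G.stabilizer, l ≫ G.stabilizerι = r := by
  refine ⟨pullback.lift r (r ≫ G.s) ?_, pullback.lift_fst _ _ _⟩
  apply pullback.hom_ext
  · rw [Category.assoc, Category.assoc, GroupoidSp.j_fst, GroupoidSp.diag, pullback.lift_fst, h, Category.comp_id]
  · rw [Category.assoc, Category.assoc, GroupoidSp.j_snd, GroupoidSp.diag, pullback.lift_snd, Category.comp_id]

/-- The stabilizer is the pullback of the diagonal. -/
theorem isPullback_stabilizerι {M : Sp S} (e : G.U ≅ M) :
    IsPullback G.stabilizerι (G.stabilizerι ≫ G.s ≫ e.hom) (prod.lift (G.t ≫ e.hom) (G.s ≫ e.hom)) (Limits.diag M) := by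
  have hc : ∀ σ : PullbackCone (prod.lift (G.t ≫ e.hom) (G.s ≫ e.hom)) (Limits.diag M),
      σ.fst ≫ G.t = σ.fst ≫ G.s := by
    intro σ
    have h := σ.condition
    have h1 := congrArg (· ≫ prod.fst) h
    have h2 := congrArg (· ≫ prod.snd) h
    simp only [Category.assoc, prod.lift_fst, prod.lift_snd, Category.comp_id] at h1 h2
    rw [← cancel_mono e.hom, Category.assoc, Category.assoc, h1, h2]
  refine ⟨⟨?_⟩, ⟨PullbackCone.IsLimit.mk _ (fun σ => (exists_lift_stabilizer G σ.fst (hc σ)).choose) (fun σ => ?_)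
    (fun σ => ?_) (fun σ m h1 h2 => ?_)⟩⟩
  · ext
    · simp only [Category.assoc, prod.lift_fst, Category.comp_id]
      rw [← Category.assoc, stabilizerι_t, Category.assoc]
    · simp only [Category.assoc, prod.lift_snd, Category.comp_id]
  · exact (exists_lift_stabilizer G σ.fst (hc σ)).choose_spec
  · have h := σ.condition
    have h2 := congrArg (· ≫ prod.snd) h
    simp only [Category.assoc, prod.lift_snd, Category.comp_id] at h2
    rw [← Category.assoc, (exists_lift_stabilizer G σ.fst (hc σ)).choose_spec, h2]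
  · rw [← cancel_mono G.stabilizerι, h1, (exists_lift_stabilizer G σ.fst (hc σ)).choose_spec]

theorem isSeparated_spec {A : CommRingCat.{u}} (σ : Spec A ⟶ S) : IsSeparated σ := by
  have : IsSeparated (σ ≫ terminal.from S) := by
    rw [Subsingleton.elim (σ ≫ terminal.from S) (terminal.from (Spec A))]
    infer_instance
  exact IsSeparated.of_comp σ (terminal.from S)

theorem repWith_stabilizerι {A : CommRingCat.{u}} {σ : Spec A ⟶ S} (e : G.U ≅ (yon S).obj (Over.mk σ)) :
    RepWith @IsClosedImmersion G.stabilizerι := by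
  have h1 : RepWith @IsClosedImmersion (Limits.diag ((yon S).obj (Over.mk σ))) := by
    rw [repWith_diag_yon_iff]
    have : IsSeparated σ := isSeparated_spec σ
    exact inferInstanceAs (IsClosedImmersion (pullback.diagonal σ))
  exact MorphismProperty.of_isPullback (P := RepWith @IsClosedImmersion) (isPullback_stabilizerι G e).flip h1

/-- An affine étale chart at a point. -/
theorem exists_affine_chart {F : Sp S} (hF : IsAlgSpace F) (x : Points F) :
    ∃ (A : CommRingCat.{u}) (g : Spec A ⟶ S) (a : (yon S).obj (Over.mk g) ⟶ F) (q : PrimeSpectrum A),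
      RepWith @Etale a ∧ Points.ofPt (T := Over.mk g) a q = x := by
  obtain ⟨V, a, v, ha, hv⟩ := exists_chart hF x
  obtain ⟨W, hW, hvW, -⟩ := exists_isAffineOpen_mem_and_subset (X := V.left) (x := v) (U := ⊤) trivial
  let m : Over.mk (hW.fromSpec ≫ V.hom) ⟶ V := Over.homMk hW.fromSpec rfl
  refine ⟨Γ(V.left, W), hW.fromSpec ≫ V.hom, (yon S).map m ≫ a, hW.primeIdealOf ⟨v, hvW⟩, ?_, ?_⟩
  · refine MorphismProperty.comp_mem _ _ _ ((repWith_yon_map_iff _ _).2 ?_) ha
    exact inferInstanceAs (Etale hW.fromSpec)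
  · rw [K609.Points.ofPt_yon_map_comp]
    have h1 : m.left (hW.primeIdealOf ⟨v, hvW⟩) = v := hW.fromSpec_primeIdealOf ⟨v, hvW⟩
    rw [h1, hv]

variable {G}

theorem mem_range_iff {A : CommRingCat.{u}} {g : Spec A ⟶ S} {k : CommRingCat.{u}} {σ : Spec k ⟶ S}
    (e : G.U ≅ (yon S).obj (Over.mk σ)) (a : (yon S).obj (Over.mk g) ⟶ G.R)
    {sV tV : (Over.mk g : Over S) ⟶ Over.mk σ} (hsV : (yon S).map sV = a ≫ G.s ≫ e.hom)
    (htV : (yon S).map tV = a ≫ G.t ≫ e.hom) (φ ψ : k ⟶ A) (hφ : Spec.map φ = sV.left) (hψ : Spec.map ψ = tV.left)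
    {Z : Over S} {ι : Z ⟶ Over.mk g} {fst : (yon S).obj Z ⟶ G.stabilizer}
    (sq : IsPullback fst ((yon S).map ι) G.stabilizerι a) (P : PrimeSpectrum A) :
    (∃ z : Z.left, ι.left z = P) ↔ ∀ x : k, φ.hom x - ψ.hom x ∈ P.asIdeal := by
  constructor
  · rintro ⟨z, hz⟩ x
    have h1 : ι ≫ sV = ι ≫ tV := by
      apply (yon S).map_injective
      rw [Functor.map_comp, Functor.map_comp, hsV, htV, ← Category.assoc _ a, ← Category.assoc _ a, ← sq.w,
        Category.assoc, Category.assoc, ← Category.assoc _ G.s, ← stabilizerι_t, Category.assoc]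
    have h2 : ι.left ≫ Spec.map φ = ι.left ≫ Spec.map ψ := by
      rw [hφ, hψ]
      exact congrArg Over.Hom.left h1
    let γ : Spec (Z.left.residueField z) ⟶ Spec A := Z.left.fromSpecResidueField z ≫ ι.left
    obtain ⟨χ, hχ⟩ := Spec.map_surjective γ
    have h3 : φ ≫ χ = ψ ≫ χ := by
      apply Spec.map_injective
      rw [Spec.map_comp, Spec.map_comp, hχ, Category.assoc, Category.assoc, h2]
    have h4 : χ.hom (φ.hom x - ψ.hom x) = 0 := by
      rw [map_sub, sub_eq_zero]
      exact congrArg (fun θ => θ.hom x) h3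
    have h5 : P = (Spec.map χ) (IsLocalRing.closedPoint (Z.left.residueField z)) := by
      rw [hχ, ← hz]
      change _ = (Z.left.fromSpecResidueField z ≫ ι.left) _
      rw [Scheme.Hom.comp_apply]
      congr 1
      exact (Z.left.fromSpecResidueField_apply z _).symm
    rw [h5]
    change χ.hom (φ.hom x - ψ.hom x) ∈ (IsLocalRing.closedPoint (Z.left.residueField z)).asIdeal
    rw [h4]
    exact Ideal.zero_mem _
  · intro h
    let χ : A ⟶ CommRingCat.of (A ⧸ P.asIdeal) := CommRingCat.ofHom (Ideal.Quotient.mk P.asIdeal)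
    let m : (Over.mk (Spec.map χ ≫ g) : Over S) ⟶ Over.mk g := Over.homMk (Spec.map χ) rfl
    have h1 : φ ≫ χ = ψ ≫ χ := by
      ext x
      exact Ideal.Quotient.eq.2 (h x)
    have h2 : m ≫ sV = m ≫ tV := by
      ext1
      change Spec.map χ ≫ sV.left = Spec.map χ ≫ tV.left
      rw [← hφ, ← hψ, ← Spec.map_comp, ← Spec.map_comp, h1]
    have h3 : ((yon S).map m ≫ a) ≫ G.t = ((yon S).map m ≫ a) ≫ G.s := by
      rw [← cancel_mono e.hom]
      simp only [Category.assoc]
      rw [← hsV, ← htV, ← Functor.map_comp, ← Functor.map_comp, h2]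
    obtain ⟨l, hl⟩ := exists_lift_stabilizer G _ h3
    obtain ⟨m', hm'⟩ := (yon S).map_surjective (sq.lift l ((yon S).map m) hl)
    have h4 : m' ≫ ι = m := by
      apply (yon S).map_injective
      rw [Functor.map_comp, hm', sq.lift_snd]
    refine ⟨m'.left ⟨⊥, Ideal.isPrime_bot⟩, ?_⟩
    have h5 : ι.left (m'.left (⟨⊥, Ideal.isPrime_bot⟩ : PrimeSpectrum (A ⧸ P.asIdeal))) =
        m.left (⟨⊥, Ideal.isPrime_bot⟩ : PrimeSpectrum (A ⧸ P.asIdeal)) := by
      rw [← h4]
      rfl
    rw [h5]
    apply PrimeSpectrum.ext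
    change Ideal.comap (Ideal.Quotient.mk P.asIdeal) ⊥ = P.asIdeal
    rw [← RingHom.ker_eq_comap_bot, Ideal.mk_ker]

theorem dim_R_le {k : Type u} [Field k] {σ : Spec (CommRingCat.of k) ⟶ S} (hR : IsAlgSpace G.R)
    (e : G.U ≅ (yon S).obj (Over.mk σ)) (hs : LocP @LocallyOfFiniteType G.s) :
    AlgSp.dim G.R ≤ AlgSp.dim G.stabilizer := by
  let x₀ : Points G.U := Points.map e.inv (Points.ofScheme (Over.mk σ) (IsLocalRing.closedPoint k))
  obtain ⟨A, g, a, q, ha, hq⟩ := exists_affine_chart hR (Points.map G.e x₀)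
  obtain ⟨sV, hsV⟩ := (yon S).map_surjective (a ≫ G.s ≫ e.hom)
  obtain ⟨tV, htV⟩ := (yon S).map_surjective (a ≫ G.t ≫ e.hom)
  obtain ⟨φ, hφ⟩ := Spec.map_surjective (R := CommRingCat.of k) (S := A) sV.left
  obtain ⟨ψ, hψ⟩ := Spec.map_surjective (R := CommRingCat.of k) (S := A) tV.left
  have hi := repWith_stabilizerι G e
  have sq := hi.rep.isPullback a
  have hfst : RepWith @Etale (hi.rep.fst a) := MorphismProperty.of_isPullback (P := RepWith @Etale) sq.flip ha
  have hsnd : IsClosedImmersion (hi.rep.snd a).left := hi.property_snd a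
  have hb : RepWith @Etale e.inv := MorphismProperty.of_isIso (RepWith @Etale) e.inv
  have hlft : LocallyOfFiniteType sV.left := hs a e.inv sV ha hb (by rw [hsV]; simp)
  have hft : φ.hom.FiniteType := by
    rw [← hφ] at hlft
    exact (HasRingHomProperty.Spec_iff (P := @LocallyOfFiniteType)).1 hlft
  have hN : IsNoetherianRing A := by
    algebraize [φ.hom]
    exact Algebra.FiniteType.isNoetherianRing k A
  have key := mem_range_iff e a hsV htV φ ψ hφ hψ sq
  -- the identity point lies in the stabilizer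
  obtain ⟨l, hl⟩ := exists_lift_stabilizer G G.e (by rw [G.e_s, G.e_t])
  have hq1 : Points.map G.stabilizerι (Points.map l x₀) = Points.map a (Points.ofScheme (Over.mk g) q) := by
    rw [← Points.map_comp, hl, ← hq]
    exact Points.ofPt_eq_map_ofScheme a _
  obtain ⟨z, -, hz⟩ := K609.Points.exists_of_isPullback sq _ _ hq1
  obtain ⟨z, rfl⟩ := K609.Points.ofScheme_surjective _ z
  rw [K609.Points.map_yon_map_ofScheme] at hz
  have hqmem := (key q).1 ⟨z, K609.Points.ofScheme_injective _ hz⟩
  -- a neighbourhood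
  let I : Ideal A := Ideal.span (Set.range fun x : k => φ.hom x - ψ.hom x)
  obtain ⟨f, hfq, hf⟩ := exists_notMem_of_forall_le q.asIdeal I (by
    intro P hP hPq
    rw [Ideal.span_le]
    rintro _ ⟨x, rfl⟩
    exact K609.SubField.sub_mem_of_le φ.hom ψ.hom hft P q.asIdeal hPq hqmem x)
  let D : TopologicalSpace.Opens (PrimeSpectrum A) := PrimeSpectrum.basicOpen f
  have hD : (D : Set (PrimeSpectrum A)) ⊆ Set.range (hi.rep.snd a).left := by
    intro P hP
    refine (key P).2 fun x => hf P.asIdeal P.isPrime ?_ (Ideal.subset_span ⟨x, rfl⟩)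
    exact hP
  have hdim := gpd_hasAt_dim G hR k σ e hs (Points.map G.e x₀)
  rw [← hq, hasAt_iff (K616.DimInv.etInvAt_localDim (fun c => c = AlgSp.dim G.R)) a ha] at hdim
  rw [← hdim]
  have h1 : FlatMor.localDim (PrimeSpectrum A) q ≤ topologicalKrullDim (D : Set (PrimeSpectrum A)) :=
    iInf_le (fun O : {U : TopologicalSpace.Opens (PrimeSpectrum A) // q ∈ U} =>
      topologicalKrullDim (O.1 : Set (PrimeSpectrum A))) ⟨D, hfq⟩
  refine h1.trans (le_trans ?_ (topologicalKrullDim_le_dim _ hfst))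
  have hE : Topology.IsEmbedding (hi.rep.snd a).left := (hi.rep.snd a).left.isEmbedding
  have h2 : Topology.IsInducing (fun p : (D : Set (PrimeSpectrum A)) =>
      hE.toHomeomorph.symm (Set.inclusion hD p)) :=
    hE.toHomeomorph.symm.isInducing.comp (Topology.IsEmbedding.inclusion hD).isInducing
  exact h2.topologicalKrullDim_le

theorem dim_R_eq {k : Type u} [Field k] {σ : Spec (CommRingCat.of k) ⟶ S} (hR : IsAlgSpace G.R)
    (e : G.U ≅ (yon S).obj (Over.mk σ)) (hs : LocP @LocallyOfFiniteType G.s) :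
    AlgSp.dim G.R = AlgSp.dim G.stabilizer :=
  le_antisymm (dim_R_le hR e hs) (dim_le_of_isClosedImmersion hR (repWith_stabilizerι G e))

end Stab

end K609.StabDim
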